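import Cfsg.Agent.Lib.SuzRecog.Defs

/-!
# A base of the graph on 416 points
-/

set_option autoImplicit false
set_option maxRecDepth 100000
set_option Elab.async false

namespace Cfsg.Lib.SuzRecog

theorem baseStep0 : baseStepB 0 = true := by decide +kernel
theorem baseStep1 : baseStepB 1 = true := by decide +kernel
theorem baseStep2 : baseStepB 2 = true := by decide +kernel
theorem baseStep3 : baseStepB 3 = true := by decide +kernel
theorem baseStep4 : baseStepB 4 = true := by decide +kernel
theorem baseEnd : baseEndB = true := by decide +kernel

end Cfsg.Lib.SuzRecog
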