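import Cfsg.Agent.Lib.SuzRecog.Chain
import Cfsg.Agent.Lib.SuzRecog.BaseChecks

/-!
# A bound on the automorphisms of the graph on 416 points
-/

set_option autoImplicit false
set_option maxRecDepth 100000

namespace Cfsg.Lib.SuzRecog

open Cfsg.Lib.CosetEnum MulAction Equiv
open Cfsg.Lib.GTwoFour416 (nib grp)

theorem withL_eq : ∀ (l : List ℕ) (k : List ℕ → Bool), withL l k = k l
  | [], _ => rfl
  | a :: l, k => by
    show withVal a (fun a' => withL l fun l' => k (a' :: l')) = _
    rw [withVal, force_eq, withL_eq]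

theorem sameL_iff : ∀ {l l' : List ℕ}, sameL l l' = true ↔ l = l'
  | [], [] => by simp [sameL]
  | [], _ :: _ => by simp [sameL]
  | _ :: _, [] => by simp [sameL]
  | a :: l, b :: l' => by simp [sameL, sameL_iff, Nat.beq_eq]

theorem prof_map {g : Perm Pt} (hg : g ∈ AutE) : ∀ (P : List ℕ),
    (∀ b ∈ P, ∃ p : Pt, (p : ℕ) = b ∧ g p = p) → ∀ z : Pt, prof P (g z : Pt) = prof P z
  | [], _, _ => rfl
  | b :: P, h, z => by
    obtain ⟨p, hp, hgp⟩ := h b (List.mem_cons_self ..)
    have h1 : Nat.beq ((g z : Pt) : ℕ) b = Nat.beq (z : ℕ) b := by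
      rw [Bool.eq_iff_iff, Nat.beq_eq, Nat.beq_eq, ← hp]
      exact ⟨fun h => congrArg Fin.val (g.injective ((Fin.ext h).trans hgp.symm)),
        fun h => by rw [Fin.ext h]; exact congrArg Fin.val hgp⟩
    have h2 : (row b).testBit ((g z : Pt) : ℕ) = (row b).testBit (z : ℕ) := by
      rw [Bool.eq_iff_iff, ← hp]
      have := hg p z
      rwa [hgp] at this
    simp only [prof, prof_map hg P (fun b' h' => h b' (List.mem_cons_of_mem _ h')) z, h1, h2]

theorem profM_bit (P : List ℕ) (k : ℕ) (z : Pt) :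
    (profM P k).testBit (z : ℕ) = true ↔ prof P (z : ℕ) = k := by
  have key : ∀ (l : List ℕ) (acc : ℕ),
      (l.foldl (fun acc v => force (cond (Nat.beq (prof P v) k) (Nat.lor acc (Nat.shiftLeft 1 v)) acc) fun a => a)
        acc).testBit (z : ℕ) = true ↔ acc.testBit (z : ℕ) = true ∨ ((z : ℕ) ∈ l ∧ prof P (z : ℕ) = k) := by
    intro l
    induction l with
    | nil => simp
    | cons v l ih =>
      intro acc
      rw [List.foldl_cons, ih, force_eq, List.mem_cons]
      cases hv : Nat.beq (prof P v) k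
      · simp only [cond_false]
        have hne : prof P v ≠ k := by rw [← Bool.not_eq_true, Nat.beq_eq] at hv; exact hv
        constructor
        · rintro (h | ⟨h1, h2⟩)
          · exact Or.inl h
          · exact Or.inr ⟨Or.inr h1, h2⟩
        · rintro (h | ⟨h1 | h1, h2⟩)
          · exact Or.inl h
          · exact absurd (h1 ▸ h2) hne
          · exact Or.inr ⟨h1, h2⟩
      · rw [Nat.beq_eq] at hv
        simp only [cond_true]
        change ((acc ||| 1 <<< v).testBit (z : ℕ) = true ∨ _) ↔ _
        rw [Nat.testBit_lor, Bool.or_eq_true, Nat.one_shiftLeft, Nat.testBit_two_pow, decide_eq_true_eq]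
        constructor
        · rintro ((h | h) | ⟨h1, h2⟩)
          · exact Or.inl h
          · exact Or.inr ⟨Or.inl h.symm, h ▸ hv⟩
          · exact Or.inr ⟨Or.inr h1, h2⟩
        · rintro (h | ⟨h1 | h1, h2⟩)
          · exact Or.inl (Or.inl h)
          · exact Or.inl (Or.inr h1.symm)
          · exact Or.inr ⟨h1, h2⟩
  rw [profM, key, Nat.zero_testBit]
  simp

theorem sigM_map {g : Perm Pt} (hg : g ∈ AutE) {P : List ℕ} (hP : ∀ b ∈ P, ∃ p : Pt, (p : ℕ) = b ∧ g p = p)
    (W : List ℕ) (z : Pt) :
    sigM P (W.map (profM P)) (g z : Pt) = sigM P (W.map (profM P)) z := by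
  simp only [sigM, prof_map hg P hP z, List.cons.injEq, true_and, List.map_map]
  refine List.map_congr_left fun k _ => ?_
  show size (profM P k &&& row ((g z : Pt) : ℕ)) = size (profM P k &&& row (z : ℕ))
  rw [size_card, size_card]
  refine (Finset.card_equiv g fun w => ?_).symm
  simp only [Finset.mem_filter, Finset.mem_univ, true_and, Nat.testBit_land, Bool.and_eq_true, profM_bit,
    prof_map hg P hP w]
  exact and_congr_right fun _ => (hg z w).symm

/-- The automorphisms fixing the first points of the base. -/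
def fixed (i : ℕ) : Subgroup (Perm Pt) where
  carrier := {g | g ∈ AutE ∧ ∀ p : Pt, (p : ℕ) ∈ baseE.take i → g p = p}
  mul_mem' := fun {g h} hg hh => ⟨mul_mem hg.1 hh.1, fun p hp => by rw [Perm.mul_apply, hh.2 p hp, hg.2 p hp]⟩
  one_mem' := ⟨one_mem _, fun _ _ => rfl⟩
  inv_mem' := fun {g} hg => ⟨inv_mem hg.1, fun p hp => by
    conv_lhs => rw [← hg.2 p hp]
    simp⟩

theorem base_steps : ∀ i < 5, baseStepB i = true
  | 0, _ => baseStep0 | 1, _ => baseStep1 | 2, _ => baseStep2 | 3, _ => baseStep3 | 4, _ => baseStep4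
  | i + 5, h => absurd h (by omega)

/-- The bound. -/
theorem card_AutE : Nat.card AutE ≤ 1509580800 := by
  classical
  have hend := baseEnd
  simp only [baseEndB, withL_eq, Bool.and_eq_true, List.all_eq_true, List.mem_range, Nat.beq_eq, Nat.blt_eq,
    Bool.not_eq_true', Nat.ble_eq] at hend
  obtain ⟨⟨⟨hlen, hlt⟩, hprod⟩, hlast⟩ := hend
  have hpts : ∀ {g : Perm Pt} {i : ℕ}, g ∈ fixed i → ∀ b ∈ baseE.take i, ∃ p : Pt, (p : ℕ) = b ∧ g p = p :=
    fun {g i} hg b hb => ⟨⟨b, hlt b (List.mem_of_mem_take hb)⟩, rfl, hg.2 _ hb⟩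
  have h5 : fixed 5 = ⊥ := by
    refine (Subgroup.eq_bot_iff_forall _).2 fun g hg => Equiv.ext fun v => ?_
    show g v = v
    have e5 : baseE.take 5 = baseE := List.take_of_length_le hlen.le
    have hsig := sigM_map hg.1 (P := baseE) (fun b hb => hpts hg b (e5.symm ▸ hb)) (witE.getD 5 []) v
    by_contra hne
    rcases lt_or_gt_of_ne (fun e => hne (Fin.ext e) : ((g v : Pt) : ℕ) ≠ (v : ℕ)) with h | h
    · have := hlast v v.isLt (g v : Pt) h
      rw [hsig, sameL_iff.2 rfl] at this
      exact Bool.false_ne_true this.symm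
    · have := hlast (g v : Pt) (g v).isLt v h
      rw [hsig, sameL_iff.2 rfl] at this
      exact Bool.false_ne_true this.symm
  have hstep : ∀ i, i < 5 → Nat.card (fixed i) ≤ sizeE.getD i 0 * Nat.card (fixed (i + 1)) := by
    intro i hi
    have hs := base_steps i hi
    simp only [baseStepB, withL_eq, Nat.ble_eq] at hs
    have hd : baseE.getD i 0 ∈ baseE := by
      rw [List.getD_eq_getElem _ _ (by omega : i < baseE.length)]; exact List.getElem_mem _
    set p : Pt := ⟨baseE.getD i 0, hlt _ hd⟩ with hp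
    have hm := card_mul_stab (fixed i) p (S := {y | ∃ g ∈ fixed i, g p = y}) fun y => Iff.rfl
    rw [← hm]
    have hle : fixed i ⊓ stabilizer (Perm Pt) p ≤ fixed (i + 1) := by
      rintro g ⟨hg, hgp⟩
      refine ⟨hg.1, fun q hq => ?_⟩
      rw [List.take_add_one, List.mem_append] at hq
      rcases hq with hq | hq
      · exact hg.2 q hq
      · rw [Option.mem_toList, List.getElem?_eq_getElem (by omega : i < baseE.length), Option.some_inj] at hq
        have : q = p := Fin.ext (by
          rw [← hq]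
          show baseE[i] = baseE.getD i 0
          rw [List.getD_eq_getElem _ _ (by omega : i < baseE.length)]; rfl)
        rw [this]; exact hgp
    refine Nat.mul_le_mul ?_ (Subgroup.card_le_of_le hle)
    refine le_trans ?_ hs
    rw [← List.toFinset_card_of_nodup (List.nodup_range.filter _), ← Set.ncard_coe_finset,
      ← Set.ncard_image_of_injective _ Fin.val_injective]
    refine Set.ncard_le_ncard ?_
    rintro _ ⟨_, ⟨g, hg, rfl⟩, rfl⟩
    simp only [Finset.mem_coe, List.mem_toFinset, List.mem_filter, List.mem_range, sameL_iff]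
    exact ⟨(g p).isLt, sigM_map hg.1 (hpts hg) _ p⟩
  have h0 : fixed 0 = AutE := le_antisymm (fun g hg => hg.1) fun g hg => ⟨hg, fun p hp => by simp at hp⟩
  have e5 : Nat.card (fixed 5) = 1 := by rw [h5]; exact Subgroup.card_bot
  rw [← h0]
  calc Nat.card (fixed 0)
      ≤ sizeE.getD 0 0 * (sizeE.getD 1 0 * (sizeE.getD 2 0 * (sizeE.getD 3 0 *
          (sizeE.getD 4 0 * Nat.card (fixed 5))))) := by
        refine (hstep 0 (by omega)).trans (Nat.mul_le_mul_left _ ?_)
        refine (hstep 1 (by omega)).trans (Nat.mul_le_mul_left _ ?_)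
        refine (hstep 2 (by omega)).trans (Nat.mul_le_mul_left _ ?_)
        refine (hstep 3 (by omega)).trans (Nat.mul_le_mul_left _ ?_)
        exact hstep 4 (by omega)
    _ ≤ 1509580800 := by rw [e5]; decide +kernel

end Cfsg.Lib.SuzRecog
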