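import Cfsg.Agent.Lib.SuzRecog.Graph

/-!
# Chains of generators of prime power groups, words and trees
-/

set_option autoImplicit false
set_option maxRecDepth 100000

namespace Cfsg.Lib.SuzRecog

open Cfsg.Lib.CosetEnum MulAction Equiv
open Cfsg.Lib.GTwoFour416 (nib grp)

/-- Generators each normalising the earlier ones, with powers among them, generate a prime power group. -/
theorem isPGroup_chain {G : Type*} [Group G] [Finite G] {p : ℕ} [Fact p.Prime] (h : ℕ → G) :
    ∀ k, (∀ i < k, h i ^ p ∈ Subgroup.closure (h '' {j | j < i}) ∧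
      ∀ j < i, h i * h j * (h i)⁻¹ ∈ Subgroup.closure (h '' {j | j < i})) →
    IsPGroup p (Subgroup.closure (h '' {j | j < k}))
  | 0, _ => by
    rw [show h '' {j | j < 0} = (∅ : Set G) by simp, Subgroup.closure_empty]
    exact IsPGroup.of_bot
  | k + 1, hk => by
    set N := Subgroup.closure (h '' {j | j < k}) with hN
    have hp : IsPGroup p N := isPGroup_chain h k fun i hi => hk i (by omega)
    obtain ⟨hpow, hconj⟩ := hk k (Nat.lt_succ_self k)
    have hz : IsPGroup p (Subgroup.zpowers (h k)) := by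
      rintro ⟨x, n, rfl⟩
      obtain ⟨m, hm⟩ := hp ⟨_, hpow⟩
      refine ⟨m + 1, Subtype.ext ?_⟩
      have e : h k ^ p ^ (m + 1) = 1 := by
        rw [pow_succ', pow_mul]
        exact congrArg Subtype.val hm
      show (h k ^ n) ^ p ^ (m + 1) = 1
      rw [← zpow_natCast, ← zpow_mul, mul_comm n, zpow_mul, zpow_natCast, e, one_zpow]
    have hnorm : Subgroup.zpowers (h k) ≤ Subgroup.normalizer (N : Set G) := by
      rw [Subgroup.zpowers_le]
      have hsub : N.map (MulAut.conj (h k)).toMonoidHom ≤ N := by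
        rw [hN, MonoidHom.map_closure, Subgroup.closure_le]
        rintro _ ⟨_, ⟨j, hj, rfl⟩, rfl⟩
        exact hconj j hj
      have heq := Subgroup.eq_of_le_of_card_ge hsub
        (by rw [Subgroup.card_map_of_injective (MulAut.conj (h k)).injective])
      rw [Subgroup.mem_normalizer_iff]
      intro x
      refine ⟨fun hx => hsub ⟨x, hx, rfl⟩, fun hx => ?_⟩
      rw [← heq] at hx
      obtain ⟨y, hy, e⟩ := hx
      have : y = x := (MulAut.conj (h k)).injective e
      exact this ▸ hy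
    have he : Subgroup.closure (h '' {j | j < k + 1}) = Subgroup.zpowers (h k) ⊔ N := by
      rw [hN, Subgroup.zpowers_eq_closure, ← Subgroup.closure_union]
      congr 1
      ext x
      simp only [Set.mem_image, Set.mem_ofPred_eq, Set.mem_union, Set.mem_singleton_iff]
      constructor
      · rintro ⟨j, hj, rfl⟩
        rcases Nat.lt_succ_iff_lt_or_eq.1 hj with hj | rfl
        · exact Or.inr ⟨j, hj, rfl⟩
        · exact Or.inl rfl
      · rintro (rfl | ⟨j, hj, rfl⟩)
        · exact ⟨k, Nat.lt_succ_self k, rfl⟩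
        · exact ⟨j, Nat.lt_succ_of_lt hj, rfl⟩
    rw [he]
    exact hz.to_sup_of_normal_right' hp hnorm

/-- The element with an index in a list of words. -/
noncomputable def elC (ts : List (List ℕ × ℕ)) (i : ℕ) : Perm Pt := el (ts.getD i ([], 0)).1

theorem elC_spec {ts : List (List ℕ × ℕ)} (hts : ∀ e ∈ ts, wordB e = true) {i : ℕ} (hi : i < ts.length) :
    elC ts i ∈ grp ∧ ∀ v : Pt, (elC ts i v : ℕ) = nib 9 (ts.getD i ([], 0)).2 v := by
  refine word_spec (hts _ ?_)
  rw [List.getD_eq_getElem _ _ hi]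
  exact List.getElem_mem hi

theorem evC_spec {ts : List (List ℕ × ℕ)} (hts : ∀ e ∈ ts, wordB e = true) : ∀ (w : List ℕ),
    (∀ i ∈ w, i < ts.length) → ∀ v : Pt, evC ts w v = (((w.map (elC ts)).prod v : Pt) : ℕ)
  | [], _, v => rfl
  | i :: w, hw, v => by
    show force (evC ts w v) (fun a => nib 9 (ts.getD i ([], 0)).2 a) = _
    rw [force_eq, evC_spec hts w (fun j hj => hw j (List.mem_cons_of_mem _ hj)),
      List.map_cons, List.prod_cons, Perm.mul_apply, (elC_spec hts (hw i (List.mem_cons_self ..))).2]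

theorem word_eq {ts : List (List ℕ × ℕ)} (hts : ∀ e ∈ ts, wordB e = true) {w w' : List ℕ}
    (hw : ∀ i ∈ w, i < ts.length) (hw' : ∀ i ∈ w', i < ts.length)
    (h : ∀ v < 416, evC ts w v = evC ts w' v) : (w.map (elC ts)).prod = (w'.map (elC ts)).prod :=
  Equiv.ext fun v => Fin.ext (by rw [← evC_spec hts w hw, ← evC_spec hts w' hw', h v v.isLt])

/-- The points of a tree are moved onto from its first point. -/
theorem tree_spec {ts : List (List ℕ × ℕ)} (hts : ∀ e ∈ ts, wordB e = true) {o : List (ℕ × ℕ × ℕ)}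
    (h : treeB ts o = true) : ∃ r : Pt, (r : ℕ) = (o.getD 0 (0, 0, 0)).1 ∧
      ∀ v ∈ o.map (fun e => e.1), ∃ g ∈ Subgroup.closure (elC ts '' {i | i < ts.length}), (g r : ℕ) = v := by
  simp only [treeB, Bool.and_eq_true, List.all_eq_true, List.mem_range, Bool.or_eq_true, Nat.beq_eq,
    Nat.blt_eq, Bool.not_eq_true'] at h
  obtain ⟨hne, h⟩ := h
  have hl : 0 < o.length := by
    cases o with
    | nil => simp at hne
    | cons => simp
  refine ⟨⟨_, (h 0 hl).1⟩, rfl, ?_⟩
  have key : ∀ k, k < o.length → ∃ g ∈ Subgroup.closure (elC ts '' {i | i < ts.length}),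
      (g (⟨_, (h 0 hl).1⟩ : Pt) : ℕ) = (o.getD k (0, 0, 0)).1 := by
    intro k
    induction k using Nat.strong_induction_on with
    | _ k ih =>
      intro hk
      rcases (h k hk).2 with rfl | ⟨⟨hp, hg⟩, he⟩
      · exact ⟨1, one_mem _, rfl⟩
      · obtain ⟨g, hgm, hgv⟩ := ih _ hp (lt_trans hp hk)
        refine ⟨elC ts (o.getD k (0, 0, 0)).2.1 * g,
          mul_mem (Subgroup.subset_closure ⟨_, hg, rfl⟩) hgm, ?_⟩
        rw [Perm.mul_apply, (elC_spec hts hg).2, hgv, he]
  intro v hv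
  obtain ⟨e, he, rfl⟩ := List.mem_map.1 hv
  obtain ⟨k, hk, rfl⟩ := List.getElem_of_mem he
  obtain ⟨g, hg, hgv⟩ := key k hk
  exact ⟨g, hg, by rw [hgv, List.getD_eq_getElem _ _ hk]⟩

theorem treeM_bit : ∀ (o : List (ℕ × ℕ × ℕ)) (v : ℕ), (treeM o).testBit v = true ↔ v ∈ o.map fun e => e.1
  | [], v => by simp [treeM]
  | e :: o, v => by
    show (1 <<< e.1 ||| treeM o).testBit v = true ↔ _
    rw [Nat.testBit_lor, Bool.or_eq_true, treeM_bit o, Nat.one_shiftLeft, Nat.testBit_two_pow, decide_eq_true_eq,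
      List.map_cons, List.mem_cons]
    exact or_congr eq_comm Iff.rfl

/-- Disjoint trees covering all points. -/
theorem cover_spec {os : List (List (ℕ × ℕ × ℕ))} (h : coverB os = true) :
    (os.map fun o => o.map fun e => e.1).flatten.Nodup ∧
    ∀ v : Pt, ∃ o ∈ os, (v : ℕ) ∈ o.map fun e => e.1 := by
  simp only [coverB, Bool.and_eq_true, Nat.beq_eq] at h
  obtain ⟨h1, h2⟩ := h
  have hbit : ∀ (os : List (List (ℕ × ℕ × ℕ))) (v : ℕ),
      (os.foldr (fun o acc => Nat.lor (treeM o) acc) 0).testBit v = true ↔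
        ∃ o ∈ os, v ∈ o.map fun e => e.1 := by
    intro os v
    induction os with
    | nil => simp
    | cons o os ih =>
      show (treeM o ||| _).testBit v = true ↔ _
      rw [Nat.testBit_lor, Bool.or_eq_true, treeM_bit, ih]
      simp
  have hall : ∀ v : Pt, ∃ o ∈ os, (v : ℕ) ∈ o.map fun e => e.1 := fun v => (hbit os v).1 (by
    rw [h1]
    show ((1 <<< 416) - 1).testBit (v : ℕ) = true
    rw [Nat.one_shiftLeft, Nat.testBit_two_pow_sub_one, decide_eq_true_eq]
    exact v.isLt)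
  refine ⟨?_, hall⟩
  set F := (os.map fun o => o.map fun e => e.1).flatten with hF
  have hlen : F.length = 416 := by
    rw [hF, List.length_flatten, List.map_map, ← h2]
    congr 1
    simp [Function.comp_def]
  have hsub : List.range 416 ⊆ F := fun v hv => by
    obtain ⟨o, ho, hv'⟩ := hall ⟨v, List.mem_range.1 hv⟩
    exact List.mem_flatten.2 ⟨_, List.mem_map.2 ⟨o, ho, rfl⟩, hv'⟩
  have hcard : 416 ≤ F.toFinset.card := by
    rw [← Finset.card_range 416]
    refine Finset.card_le_card fun v hv => List.mem_toFinset.2 (hsub (List.mem_range.2 (Finset.mem_range.1 hv)))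
  refine List.Nodup.perm (l := F.dedup) F.nodup_dedup ?_
  have := F.dedup_sublist.eq_of_length_le (by rw [← List.card_toFinset, hlen]; omega)
  rw [this]

/-- Orbit and stabiliser inside a subgroup. -/
theorem card_mul_stab {Ω : Type*} [Fintype Ω] [DecidableEq Ω] (H : Subgroup (Perm Ω)) (x : Ω) {S : Set Ω}
    (hS : ∀ y, y ∈ S ↔ ∃ h ∈ H, h x = y) :
    S.ncard * Nat.card ↥(H ⊓ stabilizer (Perm Ω) x) = Nat.card H := by
  have hO : S = orbit H x := by
    ext y
    rw [hS]
    exact ⟨fun ⟨h, hh, e⟩ => ⟨⟨h, hh⟩, e⟩, fun ⟨h, e⟩ => ⟨h, h.2, e⟩⟩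
  have hstab : stabilizer H x = (stabilizer (Perm Ω) x).subgroupOf H := by
    ext h; rfl
  rw [← (stabilizer H x).card_mul_index, index_stabilizer, hO, hstab, mul_comm,
    ← Subgroup.inf_subgroupOf_left, Nat.card_congr (Subgroup.subgroupOfEquivOfLe inf_le_left).toEquiv]

theorem card_stab (x : Pt) : Nat.card ↥(grp ⊓ stabilizer (Perm Pt) x) = 604800 := by
  have h := card_mul_stab grp x (S := (Set.univ : Set Pt)) fun y => by
    refine ⟨fun _ => ?_, fun _ => Set.mem_univ _⟩
    obtain ⟨g, hg, rfl⟩ := trans416 x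
    obtain ⟨k, hk, rfl⟩ := trans416 y
    exact ⟨k * g⁻¹, mul_mem hk (inv_mem hg), by simp⟩
  rw [Set.ncard_univ, Nat.card_fin, card_grp] at h
  exact Nat.eq_of_mul_eq_mul_left (show 0 < 416 by norm_num) (h.trans (by norm_num))

theorem card_stab_far {u v : Pt} (hne : v ≠ u) (hA : ¬ Adj u v) :
    Nat.card ↥(grp ⊓ stabilizer (Perm Pt) u ⊓ stabilizer (Perm Pt) v) = 1920 := by
  have h := card_mul_stab (grp ⊓ stabilizer (Perm Pt) u) v (S := {y | y ≠ u ∧ ¬ Adj u y}) fun y => by
    constructor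
    · rintro ⟨hy, hyA⟩
      obtain ⟨k, hk, k0, k1⟩ := trans_pair hne hy (iff_of_false hA hyA)
      exact ⟨k, ⟨hk, k0⟩, k1⟩
    · rintro ⟨k, ⟨hk, k0⟩, rfl⟩
      have k0' : k u = u := k0
      exact ⟨fun e => hne (k.injective (e.trans k0'.symm)),
        fun e => hA ((grp_le_aut hk u v).1 (by rwa [k0']))⟩
  have hc : {y : Pt | y ≠ u ∧ ¬ Adj u y}.ncard = 315 := by
    rw [← far_card u, ← Set.ncard_coe_finset]; congr 1; ext; simp
  rw [hc, card_stab] at h
  exact Nat.eq_of_mul_eq_mul_left (show 0 < 315 by norm_num) (h.trans (by norm_num))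

end Cfsg.Lib.SuzRecog
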