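import Cfsg.Agent.Lib.SuzRecog.Search

/-!
# Subgroups of index 416 of `G₂(4)` fix a point
-/

set_option autoImplicit false
set_option maxRecDepth 100000

namespace Cfsg.Lib.SuzRecog

open Cfsg.Lib.CosetEnum MulAction Equiv
open Cfsg.Lib.GTwoFour416 (nib grp)

/-- The points of a selection with the base point. -/
def selL (sel : List ℕ) : List ℕ := ((0 :: sel).map ptsP).flatten

theorem ptsP_zero : ptsP 0 = [209] := by decide +kernel

theorem tri_table : ∀ y < 4, triB y = true
  | 0, _ => tri0 | 1, _ => tri1 | 2, _ => tri2 | 3, _ => tri3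
  | y + 4, h => absurd h (by omega)

theorem length_filter_flatten {p : ℕ → Bool} : ∀ L : List ℕ,
    (((L.map ptsP).flatten).filter p).length = (L.map fun j => ((ptsP j).filter p).length).sum
  | [] => rfl
  | a :: L => by
    rw [List.map_cons, List.flatten_cons, List.filter_append, List.length_append, length_filter_flatten L,
      List.map_cons, List.sum_cons]

theorem sum_filter_flatten {p : ℕ → Bool} {f : ℕ → ℕ} : ∀ L : List ℕ,
    ((((L.map ptsP).flatten).filter p).map f).sum = (L.map fun j => (((ptsP j).filter p).map f).sum).sum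
  | [] => rfl
  | a :: L => by
    rw [List.map_cons, List.flatten_cons, List.filter_append, List.map_append, List.sum_append,
      sum_filter_flatten L, List.map_cons, List.sum_cons]

theorem map_sum_comm {α : Type*} {f : α → ℕ → ℕ} (L : List ℕ) : ∀ l : List α,
    (l.map fun z => (L.map fun k => f z k).sum).sum = (L.map fun k => (l.map fun z => f z k).sum).sum
  | [] => by simp
  | a :: l => by
    simp only [List.map_cons, List.sum_cons, map_sum_comm L l]
    rw [List.sum_map_add]

theorem triS_eq {y : ℕ} (hy : y < 4) (sel : List ℕ) (hsel : ∀ j ∈ sel, j < 20) :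
    triS y sel = (((selL sel).filter fun z => (row (repP (triRep.getD y 0))).testBit z).map fun z =>
      ((selL sel).filter fun u => (row (repP (triRep.getD y 0))).testBit u && (row z).testBit u).length).sum := by
  have h := tri_table y hy
  simp only [triB, withVal, force_eq, List.all_eq_true, List.mem_range, Nat.beq_eq] at h
  have hlt : ∀ j ∈ (0 :: sel), j < 20 := by
    intro j hj
    rcases List.mem_cons.1 hj with rfl | hj
    · norm_num
    · exact hsel j hj
  simp only [selL, sum_filter_flatten, length_filter_flatten]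
  refine congrArg List.sum (List.map_congr_left fun j hj => ?_)
  rw [map_sum_comm]
  exact congrArg List.sum (List.map_congr_left fun k hk => h j (hlt j hj) k (hlt k hk))

theorem count_cases_fin : ∀ i : Fin 4, ∀ k : Fin 17, 24192 % (1 + 5 * (i : ℕ) + 25 * (k : ℕ)) = 0 →
    ((i : ℕ), (k : ℕ)) ∈ [(0, 5), (1, 2), (2, 1), (2, 13), (3, 8)] ∨
      ((k : ℕ) = 0 ∧ 1 + 5 * (i : ℕ) + 25 * (k : ℕ) ≤ 16) := by
  decide +kernel

theorem count_cases (i : ℕ) (hi : i < 4) (k : ℕ) (hk : k < 17) (h : (1 + 5 * i + 25 * k) ∣ 24192) :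
    (i, k) ∈ [(0, 5), (1, 2), (2, 1), (2, 13), (3, 8)] ∨ (k = 0 ∧ 1 + 5 * i + 25 * k ≤ 16) :=
  count_cases_fin ⟨i, hi⟩ ⟨k, hk⟩ (Nat.mod_eq_zero_of_dvd h)

theorem search_all : ∀ e ∈ [(0, 5), (1, 2), (2, 1), (2, 13), (3, 8)], searchB e.1 e.2 = true := by
  intro e he
  simp only [List.mem_cons, List.not_mem_nil, or_false] at he
  rcases he with rfl | rfl | rfl | rfl | rfl
  exacts [search05, search12, search21, search213, search38]

theorem five_far : ∀ j, 1 ≤ j → j ≤ 3 → (row 209).testBit (repP j) = false ∧ repP j ≠ 209 := by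
  intro j h1 h2
  interval_cases j <;> decide +kernel

theorem len_orb : ∀ j < 20, (ptsP j).length = if j = 0 then 1 else if j ≤ 3 then 5 else 25 := by
  decide +kernel

theorem repP_mem : ∀ j < 20, repP j ∈ ptsP j := by decide +kernel

theorem sum_len : ∀ sel : List ℕ, (∀ j ∈ sel, 1 ≤ j ∧ j < 20) →
    (sel.map fun j => (ptsP j).length).sum =
      5 * (sel.filter fun j => decide (j ≤ 3)).length + 25 * (sel.filter fun j => decide (3 < j)).length
  | [], _ => rfl
  | j :: sel, h => by
    obtain ⟨h1, h2⟩ := h j (List.mem_cons_self ..)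
    rw [List.map_cons, List.sum_cons, sum_len sel fun x hx => h x (List.mem_cons_of_mem _ hx), len_orb j h2,
      if_neg (by omega), List.filter_cons, List.filter_cons]
    by_cases hj : j ≤ 3
    · simp [hj, show ¬ 3 < j by omega]; omega
    · simp [hj, show 3 < j by omega]; omega

theorem subgroup_fix_base {H : Subgroup (Perm Pt)} (hle : H ≤ grp) (hc : Nat.card H = 604800) (hP : P0 ≤ H) :
    H = grp ⊓ stabilizer (Perm Pt) L0 := by
  classical
  suffices hone : ∀ g ∈ H, g L0 = L0 by
    refine Subgroup.eq_of_le_of_card_ge (fun g hg => ⟨hle hg, hone g hg⟩) ?_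
    rw [card_stab, hc]
  set O : Set Pt := {y | ∃ g ∈ H, g L0 = y} with hO
  have hOc := card_mul_stab H L0 (S := O) fun y => Iff.rfl
  rw [hc] at hOc
  obtain ⟨t, ht⟩ : 25 ∣ Nat.card ↥(H ⊓ stabilizer (Perm Pt) L0) := by
    rw [← card_P0.2]
    exact Subgroup.card_dvd_of_le fun g hg => ⟨hP hg, five_fix_base hg⟩
  have hdvd : O.ncard ∣ 24192 := ⟨t, by rw [ht] at hOc; ring_nf at hOc ⊢; omega⟩
  have hLO : L0 ∈ O := ⟨1, one_mem _, rfl⟩
  have hinv : ∀ g ∈ H, ∀ y, g y ∈ O ↔ y ∈ O := by
    intro g hg y
    constructor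
    · rintro ⟨k, hk, e⟩
      exact ⟨g⁻¹ * k, mul_mem (inv_mem hg) hk, by rw [Perm.mul_apply, e]; simp⟩
    · rintro ⟨k, hk, rfl⟩
      exact ⟨g * k, mul_mem hg hk, rfl⟩
  -- the selection
  set sel : List ℕ := (List.range 20).filter fun j =>
    decide (1 ≤ j ∧ ∃ y : Pt, (y : ℕ) = repP j ∧ y ∈ O) with hsel
  have hsel' : ∀ j ∈ sel, 1 ≤ j ∧ j < 20 := fun j hj => by
    simp only [hsel, List.mem_filter, List.mem_range, decide_eq_true_eq] at hj
    exact ⟨hj.2.1, hj.1⟩
  have hpts : ∀ v : Pt, v ∈ O ↔ (v : ℕ) ∈ selL sel := by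
    intro v
    constructor
    · intro hv
      obtain ⟨j, hj, hvj⟩ := ptsP_cover v
      refine List.mem_flatten.2 ⟨ptsP j, List.mem_map.2 ⟨j, ?_, rfl⟩, hvj⟩
      rcases Nat.eq_zero_or_pos j with rfl | hpos
      · exact List.mem_cons_self ..
      · obtain ⟨r, hr, hmove⟩ := ptsP_orbit hj
        obtain ⟨g, hg, e⟩ := hmove _ hvj
        refine List.mem_cons_of_mem _ ?_
        simp only [hsel, List.mem_filter, List.mem_range, decide_eq_true_eq]
        exact ⟨hj, hpos, r, hr, (hinv g (hP hg) r).1 (by rwa [show g r = v from Fin.ext e])⟩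
    · intro hv
      obtain ⟨l, hl, hvl⟩ := List.mem_flatten.1 hv
      obtain ⟨j, hj, rfl⟩ := List.mem_map.1 hl
      rcases List.mem_cons.1 hj with rfl | hj
      · rw [ptsP_zero, List.mem_singleton] at hvl
        rwa [show v = L0 from Fin.ext hvl]
      · have hj' := hsel' j hj
        simp only [hsel, List.mem_filter, List.mem_range, decide_eq_true_eq] at hj
        obtain ⟨-, -, r', hr', hrO⟩ := hj
        obtain ⟨r, hr, hmove⟩ := ptsP_orbit hj'.2
        obtain ⟨g, hg, e⟩ := hmove _ hvl
        rw [← show g r = v from Fin.ext e, hinv g (hP hg), show r = r' from Fin.ext (hr.trans hr'.symm)]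
        exact hrO
  have hsub : (0 :: sel).Sublist (List.range 20) := by
    rw [hsel, show List.range 20 = 0 :: (List.range 19).map Nat.succ from List.range_succ_eq_map,
      List.filter_cons]
    simp only [show ¬ (1 ≤ 0) by omega, false_and, decide_false, Bool.false_eq_true, if_false]
    exact List.Sublist.cons₂ 0 List.filter_sublist
  have hnd : (selL sel).Nodup := ptsP_nodup.sublist (hsub.map ptsP).flatten
  have hlt : ∀ v ∈ selL sel, v < 416 := fun v hv => by
    obtain ⟨l, hl, hvl⟩ := List.mem_flatten.1 hv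
    obtain ⟨j, hj, rfl⟩ := List.mem_map.1 hl
    exact ptsP_lt (List.mem_range.1 (hsub.subset hj)) hvl
  have hfilter : ∀ p : ℕ → Bool,
      ((selL sel).filter p).length = (Finset.univ.filter fun z : Pt => z ∈ O ∧ p (z : ℕ) = true).card := by
    intro p
    rw [← List.toFinset_card_of_nodup (hnd.filter p), ← Finset.card_image_of_injective (f := fun z : Pt => (z : ℕ))
      (Finset.univ.filter fun z : Pt => z ∈ O ∧ p (z : ℕ) = true) Fin.val_injective]
    congr 1
    ext v
    simp only [List.mem_toFinset, List.mem_filter, Finset.mem_image, Finset.mem_filter, Finset.mem_univ, true_and]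
    exact ⟨fun ⟨hv, hp⟩ => ⟨⟨v, hlt v hv⟩, ⟨(hpts _).2 hv, hp⟩, rfl⟩,
      fun ⟨z, ⟨hz, hp⟩, e⟩ => e ▸ ⟨(hpts z).1 hz, hp⟩⟩
  have hsum : ∀ (p : ℕ → Bool) (f : ℕ → ℕ), (((selL sel).filter p).map f).sum =
      ∑ z ∈ Finset.univ.filter (fun z : Pt => z ∈ O ∧ p (z : ℕ) = true), f z := by
    intro p f
    rw [← List.sum_toFinset _ (hnd.filter p)]
    refine (Finset.sum_bij (fun (z : Pt) _ => (z : ℕ)) ?_ ?_ ?_ (fun _ _ => rfl)).symm
    · intro z hz
      simp only [Finset.mem_filter, Finset.mem_univ, true_and] at hz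
      simp only [List.mem_toFinset, List.mem_filter]
      exact ⟨(hpts z).1 hz.1, hz.2⟩
    · intro z _ w _ e; exact Fin.ext e
    · intro v hv
      simp only [List.mem_toFinset, List.mem_filter] at hv
      exact ⟨⟨v, hlt v hv.1⟩, Finset.mem_filter.2 ⟨Finset.mem_univ _, (hpts _).2 hv.1, hv.2⟩, rfl⟩
  -- the invariants
  let D : Pt → ℕ := fun y => (Finset.univ.filter fun z : Pt => z ∈ O ∧ Adj y z).card
  let T : Pt → ℕ := fun y => ∑ z ∈ Finset.univ.filter (fun z : Pt => z ∈ O ∧ Adj y z),
    (Finset.univ.filter fun u : Pt => u ∈ O ∧ Adj y u ∧ Adj z u).card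
  have hD : ∀ y ∈ O, D y = D L0 := by
    rintro y ⟨g, hg, rfl⟩
    refine (Finset.card_equiv g fun z => ?_).symm
    simp only [Finset.mem_filter, Finset.mem_univ, true_and, hinv g hg, grp_le_aut (hle hg) L0 z]
  have hT : ∀ y ∈ O, T y = T L0 := by
    rintro y ⟨g, hg, rfl⟩
    refine (Finset.sum_equiv g (fun z => ?_) fun z _ => ?_).symm
    · simp only [Finset.mem_filter, Finset.mem_univ, true_and, hinv g hg, grp_le_aut (hle hg) L0 z]
    · refine Finset.card_equiv g fun u => ?_
      simp only [Finset.mem_filter, Finset.mem_univ, true_and, hinv g hg, grp_le_aut (hle hg) L0 u,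
        grp_le_aut (hle hg) z u]
  -- sizes
  have hO : O.ncard = (selL sel).length := by
    have h := hfilter fun _ => true
    rw [List.filter_eq_self.2 (by simp)] at h
    rw [h, ← Set.ncard_coe_finset]
    congr 1
    ext; simp
  set si := sel.filter fun j => decide (j ≤ 3) with hsi
  set sk := sel.filter fun j => decide (3 < j) with hsk
  have hlen : O.ncard = 1 + 5 * si.length + 25 * sk.length := by
    rw [hO, selL, List.length_flatten, List.map_map, List.map_cons, List.sum_cons, add_assoc, ← sum_len sel hsel']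
    simp only [Function.comp_def, ptsP_zero, List.length_singleton]
  have hfives : si.Sublist [1, 2, 3] := by
    have e : si = (List.range 20).filter (fun j => decide (1 ≤ j ∧ j ≤ 3) &&
        decide (∃ y : Pt, (y : ℕ) = repP j ∧ y ∈ O)) := by
      rw [hsi, hsel, List.filter_filter]
      refine List.filter_congr fun j _ => ?_
      by_cases h1 : 1 ≤ j <;> by_cases h3 : j ≤ 3 <;> simp [h1, h3]
    rw [e, ← List.filter_filter]
    exact (by
      rw [← show (List.range 20).filter (fun j => decide (1 ≤ j ∧ j ≤ 3)) = [1, 2, 3] by decide +kernel]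
      exact List.filter_sublist.filter _)
  have hbigs : sk.Sublist ((List.range 16).map fun j => j + 4) := by
    have e : sk = (List.range 20).filter (fun j => decide (3 < j) &&
        decide (1 ≤ j ∧ ∃ y : Pt, (y : ℕ) = repP j ∧ y ∈ O)) := by
      rw [hsk, hsel, List.filter_filter]
    rw [e, ← List.filter_filter]
    exact (by
      rw [← show (List.range 20).filter (fun j => decide (3 < j)) = (List.range 16).map fun j => j + 4 by decide +kernel]
      exact List.filter_sublist.filter _)
  have hi4 : si.length < 4 := Nat.lt_succ_of_le hfives.length_le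
  have hk17 : sk.length < 17 := by
    have := hbigs.length_le
    simp at this
    omega
  rcases count_cases _ hi4 _ hk17 (hlen ▸ hdvd) with hmem | ⟨hk0, hsmall⟩
  · exfalso
    have hs := search_all _ hmem
    simp only [searchB, withVal, force_eq] at hs
    set sub1 := si.map fun j => item (j - 1)
    set sub2 := sk.map fun j => item (j - 1)
    have h1 : sub1.Sublist fives := by
      have := hfives.map fun j => item (j - 1)
      exact this
    have h2 : sub2.Sublist bigs := by
      have := hbigs.map fun j => item (j - 1)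
      rw [List.map_map] at this
      exact this
    have hs1 := searchC_sound fives si.length 3 [] _ rfl hs sub1 h1 (List.length_map _)
    have hs2 := searchC_sound bigs sk.length 16 _ _ rfl hs1 sub2 h2 (List.length_map _)
    have efst : ∀ (l : List ℕ), (∀ j ∈ l, 1 ≤ j) → ((l.map fun j => item (j - 1)).map fun e => e.1) = l := by
      intro l hl
      rw [List.map_map]
      refine (List.map_congr_left fun j hj => ?_).trans (List.map_id' l)
      have := hl j hj
      show j - 1 + 1 = j
      omega
    have esnd : ∀ (l : List ℕ), ((l.map fun j => item (j - 1)).map fun e => e.2) = (l.map fun j => j - 1).map fun j => incP.getD j 0 := by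
      intro l
      rw [List.map_map, List.map_map]
      rfl
    have hsi1 : ∀ j ∈ si, 1 ≤ j := fun j hj => (hsel' j (List.mem_of_mem_filter hj)).1
    have hsk1 : ∀ j ∈ sk, 1 ≤ j := fun j hj => (hsel' j (List.mem_of_mem_filter hj)).1
    rw [efst si hsi1, efst sk hsk1, esnd, esnd, List.append_nil, add_assoc, ← List.sum_append, ← List.map_append,
      ← List.map_append] at hs2
    have hperm : (si ++ sk).Perm sel := by
      have := List.filter_append_perm (fun j => decide (j ≤ 3)) sel
      refine (List.Perm.of_eq ?_).trans this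
      rw [hsi, hsk]
      congr 1
      refine List.filter_congr fun j _ => ?_
      by_cases h : j ≤ 3 <;> simp [h, show ¬ j ≤ 3 ↔ 3 < j by omega]
      omega
    have hacc : ∀ i < 20, field (acc0 + ((si ++ sk).map (fun j => j - 1) |>.map fun j => incP.getD j 0).sum) i =
        ((selL sel).filter fun z => (row (repP i)).testBit z).length := by
      intro i hi
      rw [acc_field hi _ ?_ ?_, selL, length_filter_flatten, List.map_cons, List.sum_cons]
      · congr 1
        · rw [ptsP_zero]; cases h : (row (repP i)).testBit 209 <;> simp [h]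
        · rw [List.map_map, (hperm.map _).sum_eq]
          refine congrArg List.sum (List.map_congr_left fun j hj => ?_)
          obtain ⟨hj1, hj20⟩ := hsel' j hj
          show field (incP.getD (j - 1) 0) i = _
          rw [inc_facts.2.2.2.2.2.2 (j - 1) (by omega) i hi, show j - 1 + 1 = j by omega, size_card,
            ← List.toFinset_card_of_nodup (List.Nodup.filter _ ?_),
            ← Finset.card_image_of_injective (f := fun v : Pt => (v : ℕ)) _ Fin.val_injective]
          · congr 1
            ext v
            simp only [Finset.mem_image, Finset.mem_filter, Finset.mem_univ, true_and, List.mem_toFinset, List.mem_filter]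
            constructor
            · rintro ⟨z, hz, rfl⟩
              change (row (repP i) &&& treeM (orbP.getD j [])).testBit (z : ℕ) = true at hz
              rw [Nat.testBit_land, Bool.and_eq_true, treeM_bit] at hz
              exact ⟨hz.2, hz.1⟩
            · rintro ⟨hv, hb⟩
              refine ⟨⟨v, ptsP_lt hj20 hv⟩, ?_, rfl⟩
              show (row (repP i) &&& treeM (orbP.getD j [])).testBit v = true
              rw [Nat.testBit_land, Bool.and_eq_true, treeM_bit]
              exact ⟨hb, hv⟩
          · have := ptsP_nodup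
            rw [List.nodup_flatten] at this
            exact this.1 _ (List.mem_map.2 ⟨j, List.mem_range.2 hj20, rfl⟩)
      · intro x hx
        obtain ⟨j, hj, rfl⟩ := List.mem_map.1 hx
        obtain ⟨hj1, hj20⟩ := hsel' j (hperm.subset hj)
        omega
      · rw [List.length_map, hperm.length_eq]
        have := hsub.length_le
        simp at this
        omega
    have hmem2 : ∀ j, j ∈ sk.reverse ++ si.reverse → 1 ≤ j ∧ j < 20 ∧ ∃ y : Pt, (y : ℕ) = repP j ∧ y ∈ O := by
      intro j hj
      have hj' : j ∈ sel := by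
        simp only [List.mem_append, List.mem_reverse] at hj
        rcases hj with hj | hj <;> exact List.mem_of_mem_filter hj
      have := hsel' j hj'
      simp only [hsel, List.mem_filter, decide_eq_true_eq] at hj'
      exact ⟨this.1, this.2, hj'.2.2⟩
    simp only [badB, withVal, force_eq, Bool.or_eq_true, List.any_eq_true, Bool.and_eq_true, Bool.not_eq_true',
      Nat.beq_eq] at hs2
    have hrow : ∀ {j} {y : Pt}, (y : ℕ) = repP j → ((selL sel).filter fun z => (row (repP j)).testBit z).length = D y :=
      fun {j y} e => by rw [hfilter, ← e]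
    have h0 : (L0 : ℕ) = repP 0 := inc_facts.2.2.1.symm
    rcases hs2 with ⟨j, hj, hne⟩ | ⟨y, hy, j, hj, hjy, hne⟩
    · obtain ⟨-, hj20, z, hz, hzO⟩ := hmem2 j hj
      rw [hacc j hj20, hacc 0 (by norm_num), hrow hz, hrow h0, hD z hzO] at hne
      simp at hne
    · obtain ⟨-, hj20, z, hz, hzO⟩ := hmem2 j hj
      have hy4 : y < 4 := by
        simp only [List.mem_cons, List.not_mem_nil, or_false] at hy
        omega
      have hselp : ∀ x ∈ sk.reverse ++ si.reverse, x < 20 := fun x hx => (hmem2 x hx).2.1
      have hpm : (sk.reverse ++ si.reverse).Perm sel :=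
        ((sk.reverse_perm.append si.reverse_perm).trans List.perm_append_comm).trans hperm
      have hcongr : ∀ i, triS i (sk.reverse ++ si.reverse) = triS i sel := fun i => by
        simp only [triS]
        refine ((hpm.cons 0).map _).sum_eq.trans ?_
        exact congrArg List.sum (List.map_congr_left fun x _ => ((hpm.cons 0).map _).sum_eq)
      have hTy : ∀ {i} {w : Pt}, i < 4 → (w : ℕ) = repP (triRep.getD i 0) →
          triS i (sk.reverse ++ si.reverse) = T w := by
        intro i w hi hw
        rw [hcongr, triS_eq hi sel (fun x hx => (hsel' x hx).2), hsum]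
        refine Finset.sum_congr ?_ fun u _ => ?_
        · rw [← hw]
        · rw [hfilter, ← hw]
          simp only [Bool.and_eq_true]
      rw [hTy hy4 (hjy ▸ hz), hTy (show (0 : ℕ) < 4 by norm_num) h0, hT z hzO] at hne
      simp at hne
  · -- a short orbit
    rcases Nat.eq_zero_or_pos si.length with hi0 | hipos
    · intro g hg
      have h1 : O.ncard = 1 := by omega
      obtain ⟨w, hw⟩ := Set.ncard_eq_one.1 h1
      have a1 : g L0 ∈ O := ⟨g, hg, rfl⟩
      rw [hw, Set.mem_singleton_iff] at a1 hLO
      rw [a1, hLO]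
    exfalso
    obtain ⟨j, hj⟩ := List.exists_mem_of_length_pos hipos
    have hj3 : j ≤ 3 := by
      have := List.mem_filter.1 hj
      simpa using this.2
    have hjs := List.mem_of_mem_filter hj
    obtain ⟨hj1, -⟩ := hsel' j hjs
    simp only [hsel, List.mem_filter, List.mem_range, decide_eq_true_eq] at hjs
    obtain ⟨-, -, y, hy, hyO⟩ := hjs
    obtain ⟨hfar, hne⟩ := five_far j hj1 hj3
    have hyne : y ≠ L0 := fun e => hne (by rw [← hy, e]; rfl)
    have hA : ¬ Adj L0 y := by
      show ¬ (row 209).testBit (y : ℕ) = true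
      rw [hy, hfar]; exact Bool.false_ne_true
    set K := H ⊓ stabilizer (Perm Pt) L0 with hK
    have hm := card_mul_stab K y (S := {z | ∃ g ∈ K, g y = z}) fun z => Iff.rfl
    have hS : {z | ∃ g ∈ K, g y = z} ⊆ O \ {L0} := by
      rintro _ ⟨g, hg, rfl⟩
      exact ⟨(hinv g hg.1 y).2 hyO, fun e => hyne (g.injective ((e : g y = L0).trans hg.2.symm))⟩
    have hSle := Set.ncard_le_ncard hS
    rw [Set.ncard_sdiff (Set.singleton_subset_iff.2 hLO), Set.ncard_singleton] at hSle
    have h1920 : Nat.card ↥(K ⊓ stabilizer (Perm Pt) y) ≤ 1920 := by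
      rw [← card_stab_far hyne hA]
      exact Subgroup.card_le_of_le fun g hg => ⟨⟨hle hg.1.1, hg.1.2⟩, hg.2⟩
    have hKle : Nat.card K ≤ 15 * 1920 := by
      rw [← hm]
      exact Nat.mul_le_mul (by omega) h1920
    have : 604800 ≤ 16 * (15 * 1920) := by
      rw [← hOc]
      exact Nat.mul_le_mul (by omega) hKle
    omega

/-- A subgroup of index 416 is a point stabiliser. -/
theorem sub_604800 {H : Subgroup (Perm Pt)} (hle : H ≤ grp) (hc : Nat.card H = 604800) :
    ∃ L : Pt, H = grp ⊓ stabilizer (Perm Pt) L := by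
  classical
  haveI : Fact (Nat.Prime 5) := ⟨Nat.prime_five⟩
  obtain ⟨P1, hP1⟩ := Sylow.exists_subgroup_card_pow_prime 5 (G := H) (n := 2) (by rw [hc]; norm_num)
  set P : Subgroup ↥grp := (P1.map H.subtype).subgroupOf grp with hP
  set Q : Subgroup ↥grp := P0.subgroupOf grp with hQ
  have hfac : (251596800 : ℕ).factorization 5 = 2 := by
    rw [show (251596800 : ℕ) = 5 ^ 2 * 10063872 by norm_num, Nat.factorization_mul (by norm_num) (by norm_num),
      Nat.Prime.factorization_pow Nat.prime_five]
    simp [Nat.factorization_eq_zero_of_not_dvd (show ¬ 5 ∣ 10063872 by norm_num)]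
  have hPc : Nat.card P = 5 ^ (Nat.card ↥grp).factorization 5 := by
    rw [card_grp, hfac, hP, Nat.card_congr (Subgroup.subgroupOfEquivOfLe ((Subgroup.map_subtype_le P1).trans hle)).toEquiv,
      Subgroup.card_map_of_injective H.subtype_injective, hP1]
  have hQc : Nat.card Q = 5 ^ (Nat.card ↥grp).factorization 5 := by
    rw [card_grp, hfac, hQ, Nat.card_congr (Subgroup.subgroupOfEquivOfLe five_le_grp').toEquiv, card_P0.2]
    norm_num
  obtain ⟨g, hg⟩ := MulAction.exists_smul_eq ↥grp (Sylow.ofCard P hPc) (Sylow.ofCard Q hQc)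
  have hgQ : Q ≤ P.map (MulAut.conj g).toMonoidHom := by
    have := congrArg (fun S : Sylow 5 ↥grp => (S : Subgroup ↥grp)) hg
    simp only [Sylow.coe_subgroup_smul] at this
    intro x hx
    have hx' : x ∈ ((Sylow.ofCard Q hQc : Sylow 5 ↥grp) : Subgroup ↥grp) := hx
    rw [← this] at hx'
    exact hx'
  have hP0 : P0 ≤ H.map (MulAut.conj (g : Perm Pt)).toMonoidHom := by
    intro x hx
    obtain ⟨y, hy, e⟩ := hgQ (show (⟨x, five_le_grp' hx⟩ : ↥grp) ∈ Q from hx)
    exact ⟨y, Subgroup.map_subtype_le P1 hy, congrArg Subtype.val e⟩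
  have hle' : H.map (MulAut.conj (g : Perm Pt)).toMonoidHom ≤ grp := by
    rintro _ ⟨x, hx, rfl⟩
    exact mul_mem (mul_mem g.2 (hle hx)) (inv_mem g.2)
  have he := subgroup_fix_base hle' (by rw [Subgroup.card_map_of_injective (MulAut.conj (g : Perm Pt)).injective, hc]) hP0
  refine ⟨(g : Perm Pt)⁻¹ L0, Subgroup.eq_of_le_of_card_ge (fun x hx => ⟨hle hx, ?_⟩) ?_⟩
  · have : (g : Perm Pt) * x * (g : Perm Pt)⁻¹ ∈ H.map (MulAut.conj (g : Perm Pt)).toMonoidHom := ⟨x, hx, rfl⟩
    rw [he] at this
    have h2 : ((g : Perm Pt) * x * (g : Perm Pt)⁻¹) L0 = L0 := this.2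
    show x ((g : Perm Pt)⁻¹ L0) = (g : Perm Pt)⁻¹ L0
    conv_rhs => rw [← h2]
    simp
  · rw [card_stab, hc]

end Cfsg.Lib.SuzRecog
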