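import Cfsg.Agent.Lib.SuzRecog.Data
import Cfsg.Agent.Lib.GTwoFour416.Act

/-!
# Checks on the tables for the rank three recognition of the Suzuki group
-/

set_option autoImplicit false

namespace Cfsg.Lib.SuzRecog

open Cfsg.Lib.CosetEnum
open Cfsg.Lib.GTwoFour416 (nib tab)

/-- A row of the graph. -/
noncomputable def row (x : ℕ) : ℕ := rowE.get x

/-- A test on a number passed in evaluated form. -/
noncomputable def withVal (n : ℕ) (k : ℕ → Bool) : Bool := force n k

/-- The members of a set of points. -/
noncomputable def members (m : ℕ) : List ℕ := (List.range 416).filter fun v => m.testBit v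

/-- The number of ones in the lowest bytes. -/
noncomputable def ones : ℕ → ℕ → ℕ
  | 0, _ => 0
  | n + 1, m => nib 4 byteOnes (Nat.land m 255) + force (Nat.shiftRight m 8) fun m' => ones n m'

/-- The size of a set of points. -/
noncomputable def size (m : ℕ) : ℕ := ones 52 m

/-- The image of a set of points under a table. -/
noncomputable def imgM (T m : ℕ) : ℕ :=
  (members m).foldl (fun acc v => force (Nat.lor acc (Nat.shiftLeft 1 (nib 9 T v))) fun a => a) 0

/-- The table of a generator. -/
def gTab (g : ℕ) : ℕ := genT.getD g 0

/-- A table is that of a word in the generators. -/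
noncomputable def wordB (e : List ℕ × ℕ) : Bool :=
  (e.1.all fun g => Nat.blt g 6) &&
    force e.2 fun T => (List.range 416).all fun v => Nat.beq (nib 9 T v) (twalk tab 6 e.1 v)

/-- The generator tables. -/
noncomputable def genB : Bool :=
  Nat.beq genT.length 6 && (List.range 6).all fun g => wordB ([g], gTab g)

/-- The rows are sets of points and the graph is symmetric without loops. -/
noncomputable def symB : Bool :=
  (List.range 416).all fun x => force (row x) fun r =>
    Nat.blt r (Nat.shiftLeft 1 416) && !r.testBit x &&
      (List.range 416).all fun y => r.testBit y == (row y).testBit x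

/-- The generators respect the rows from a given one on. -/
noncomputable def presB (g : ℕ) : Bool :=
  (List.range 416).all fun x =>
    Nat.beq (imgM (gTab g) (row x)) (row (nib 9 (gTab g) x))

/-- The row of the base point and its meets with the other rows. -/
noncomputable def baseRowB : Bool :=
  force (row 209) fun r => (List.range 416).all fun z =>
    force (nib 4 GTwoFour416.partsAll.part z) fun c =>
      r.testBit z == Nat.beq c 2 &&
        (!Nat.beq c 2 || Nat.beq (size (Nat.land r (row z))) 36) &&
        (!Nat.beq c 3 || Nat.beq (size (Nat.land r (row z))) 20)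

/-- The set of points of a tree. -/
def treeM (o : List (ℕ × ℕ × ℕ)) : ℕ := o.foldr (fun e acc => Nat.lor (Nat.shiftLeft 1 e.1) acc) 0

/-- A tree is reached from its first point by the tables. -/
noncomputable def treeB (ts : List (List ℕ × ℕ)) (o : List (ℕ × ℕ × ℕ)) : Bool :=
  !o.isEmpty && (List.range o.length).all fun k =>
    Nat.blt (o.getD k (0, 0, 0)).1 416 &&
    (Nat.beq k 0 || (Nat.blt (o.getD k (0, 0, 0)).2.2 k && Nat.blt (o.getD k (0, 0, 0)).2.1 ts.length &&
      Nat.beq (nib 9 (ts.getD (o.getD k (0, 0, 0)).2.1 ([], 0)).2 (o.getD (o.getD k (0, 0, 0)).2.2 (0, 0, 0)).1)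
        (o.getD k (0, 0, 0)).1))

/-- The trees are disjoint and cover everything. -/
noncomputable def coverB (os : List (List (ℕ × ℕ × ℕ))) : Bool :=
  Nat.beq (os.foldr (fun o acc => Nat.lor (treeM o) acc) 0) (Nat.sub (Nat.shiftLeft 1 416) 1) &&
    Nat.beq (os.map List.length).sum 416

/-- The product of tables along a list of indices. -/
noncomputable def evC (ts : List (List ℕ × ℕ)) (w : List ℕ) (v : ℕ) : ℕ :=
  w.foldr (fun i acc => force acc fun a => nib 9 (ts.getD i ([], 0)).2 a) v

/-- The two elements of order five commute and fix the base point. -/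
noncomputable def fiveB : Bool :=
  match fiveP with
  | [a, b] => wordB a && wordB b && Nat.beq (nib 9 a.2 209) 209 && Nat.beq (nib 9 b.2 209) 209 &&
      (List.range 416).all fun v =>
        Nat.beq (evC fiveP [0, 0, 0, 0, 0] v) v && Nat.beq (evC fiveP [1, 1, 1, 1, 1] v) v &&
          Nat.beq (evC fiveP [0, 1] v) (evC fiveP [1, 0] v)
  | _ => false

/-- The chain of the two group. -/
noncomputable def chainB : Bool :=
  Nat.beq twoU.length 12 && twoU.all wordB && Nat.beq sqU.length 12 && Nat.beq cjU.length 12 &&
  (List.range 12).all fun i =>
    (sqU.getD i []).all (fun j => Nat.blt j i) &&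
    ((List.range 416).all fun v => Nat.beq (evC twoU [i, i] v) (evC twoU (sqU.getD i []) v)) &&
    (List.range i).all fun j =>
      ((cjU.getD i []).getD j []).all (fun k => Nat.blt k i) &&
        (List.range 416).all fun v =>
          Nat.beq (evC twoU [i, j] v) (evC twoU (((cjU.getD i []).getD j []) ++ [i]) v)

/-- The representative of a tree. -/
def repP (j : ℕ) : ℕ := ((orbP.getD j []).getD 0 (0, 0, 0)).1

/-- An entry of the incidence table. -/
noncomputable def field (a i : ℕ) : ℕ := nib 12 a i

/-- The incidence table. -/
noncomputable def incB : Bool :=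
  Nat.beq orbP.length 20 && Nat.beq incP.length 19 && Nat.beq (repP 0) 209 &&
  Nat.beq (orbP.getD 0 []).length 1 && orbP.all (treeB fiveP) && coverB orbP &&
  (List.range 19).all fun j => force (treeM (orbP.getD (j + 1) [])) fun m =>
    Nat.blt (incP.getD j 0) (Nat.shiftLeft 1 240) &&
      (List.range 20).all fun i => Nat.beq (field (incP.getD j 0) i) (size (Nat.land (row (repP i)) m))

/-- The points of an orbit. -/
def ptsP (j : ℕ) : List ℕ := (orbP.getD j []).map fun e => e.1

/-- The representatives whose triangles separate. -/
def triRep : List ℕ := [0, 1, 4, 10]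

/-- An entry of the table of triangles. -/
noncomputable def triF (y j k : ℕ) : ℕ := field (triP.getD (20 * y + j) 0) k

/-- The table of triangles is right for one representative. -/
noncomputable def triB (y : ℕ) : Bool :=
  withVal (repP (triRep.getD y 0)) fun r => withVal (row r) fun m => (List.range 20).all fun j =>
    (List.range 20).all fun k => Nat.beq (triF y j k)
      (((ptsP j).filter fun z => m.testBit z).map fun z =>
        ((ptsP k).filter fun u => m.testBit u && (row z).testBit u).length).sum

/-- Twice the edges among the neighbours of a representative inside a selection. -/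
noncomputable def triS (y : ℕ) (sel : List ℕ) : ℕ :=
  ((0 :: sel).map fun j => ((0 :: sel).map fun k => triF y j k).sum).sum

/-- The possible lengths of a second orbit. -/
def allowed : List ℕ := [21, 36, 56, 96, 126, 216, 336]

/-- Some representative of a selection has other invariants than the base point. -/
noncomputable def badB (sel : List ℕ) (acc : ℕ) : Bool :=
  (sel.any fun j => !Nat.beq (field acc j) (field acc 0)) ||
    withVal (triS 0 sel) fun t => [1, 2, 3].any fun y =>
      sel.any fun j => Nat.beq j (triRep.getD y 0) && !Nat.beq (triS y sel) t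

/-- The search over the selections of a given length, with what is to be done with each. -/
noncomputable def searchC (leaf : List ℕ → ℕ → Bool) :
    List (ℕ × ℕ) → ℕ → ℕ → List ℕ → ℕ → Bool
  | [], k, _, sel, acc => !Nat.beq k 0 || leaf sel acc
  | e :: es, k, len, sel, acc =>
    cond (Nat.beq k 0) (leaf sel acc) <| cond (Nat.blt len k) true <|
      withVal (len - 1) fun len' => searchC leaf es k len' sel acc &&
        withVal (k - 1) fun k' => withVal (acc + e.2) fun a' => searchC leaf es k' len' (e.1 :: sel) a'

/-- A listed orbit by index and incidences. -/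
def item (j : ℕ) : ℕ × ℕ := (j + 1, incP.getD j 0)

/-- The orbits of length five. -/
def fives : List (ℕ × ℕ) := (List.range 3).map item

/-- The orbits of length twenty-five. -/
def bigs : List (ℕ × ℕ) := (List.range 16).map fun j => item (j + 3)

/-- The incidences of the base point alone. -/
noncomputable def acc0 : ℕ :=
  (List.range 20).foldl (fun acc i =>
    force (acc + cond ((row (repP i)).testBit 209) (Nat.shiftLeft 1 (12 * i)) 0) fun a => a) 0

/-- No selection of `i` short and `k` long orbits fits. -/
noncomputable def searchB (i k : ℕ) : Bool :=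
  withVal acc0 fun a0 => searchC (fun sel acc => searchC badB bigs k 16 sel acc) fives i 3 [] a0

/-- The lengths of the orbits. -/
noncomputable def lenB : Bool :=
  (List.range 19).all fun j => Nat.beq (orbP.getD (j + 1) []).length (cond (Nat.blt j 3) 5 25)

/-- The pairs of numbers of short and long orbits that give a possible length. -/
def splitB : Bool :=
  (List.range 4).all fun i => (List.range 17).all fun k =>
    !(allowed.any fun t => Nat.beq t (1 + 5 * i + 25 * k)) ||
      [(0, 5), (1, 2), (2, 1), (2, 13), (3, 8)].any fun e => Nat.beq e.1 i && Nat.beq e.2 k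

/-- Twice the edges inside a set. -/
noncomputable def edges (X : ℕ) : ℕ :=
  (members X).foldl (fun acc v => force (acc + size (Nat.land (row v) X)) fun a => a) 0

/-- The union of the selected orbits of the two group. -/
def unionU (b : ℕ) : ℕ :=
  (List.range 5).foldl (fun acc i => cond (b.testBit i) (Nat.lor acc (treeM (orbU.getD i []))) acc) 0

/-- The candidates for the set of 96 points. -/
noncomputable def candB : Bool :=
  Nat.beq orbU.length 5 && orbU.all (treeB twoU) && coverB orbU &&
  (List.range 32).all fun b => force (unionU b) fun X =>
    !(Nat.beq (size X) 96 && Nat.beq (edges X) 1920) || Nat.beq X setX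

/-- An entry of a table of indices. -/
noncomputable def nib11 (T i : ℕ) : ℕ := nib 11 T i

/-- A set in the orbit. -/
noncomputable def rX (i : ℕ) : ℕ := rowX.get i

/-- The orbit is increasing and reached from the set. -/
noncomputable def orbXB : Bool :=
  Nat.beq (rX rootX) setX && Nat.blt rootX 1365 &&
  (List.range 1365).all fun i => force (rX i) fun m =>
    (Nat.beq i 0 || Nat.blt (rX (i - 1)) m) && Nat.blt m (Nat.shiftLeft 1 416) &&
    cond (Nat.beq (nib11 treeD i) 0) (Nat.beq i rootX)
      (Nat.blt (nib11 treeG i) 6 && Nat.blt (nib11 treeP i) 1365 &&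
        Nat.beq (nib11 treeD (nib11 treeP i) + 1) (nib11 treeD i) &&
        Nat.beq (imgM (gTab (nib11 treeG i)) (rX (nib11 treeP i))) m)

/-- The meets with the set, and the large suborbit. -/
noncomputable def meetB : Bool :=
  Nat.beq (size setX) 96 && Nat.beq (edges setX) 1920 && Nat.blt rootU 1365 &&
  (twoU.all fun e => Nat.beq (imgM e.2 setX) setX) &&
  Nat.beq (((List.range 1365).filter fun i => Nat.beq (size (Nat.land setX (rX i))) 24).length) 320 &&
  (List.range 1365).all fun i => force (size (Nat.land setX (rX i))) fun v =>
    cond (Nat.beq v 96) (Nat.beq i rootX) <| cond (Nat.beq v 48) true <| cond (Nat.beq v 24) true <|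
      Nat.beq v 21 && cond (Nat.beq (nib11 subD i) 0) (Nat.beq i rootU)
        (Nat.blt (nib11 subG i) 12 && Nat.blt (nib11 subP i) 1365 &&
          Nat.beq (size (Nat.land setX (rX (nib11 subP i)))) 21 &&
          Nat.beq (nib11 subD (nib11 subP i) + 1) (nib11 subD i) &&
          Nat.beq (imgM (twoU.getD (nib11 subG i) ([], 0)).2 (rX (nib11 subP i))) (rX i))

/-- A profile of a point along a list of points. -/
noncomputable def prof : List ℕ → ℕ → ℕ
  | [], _ => 0
  | b :: bs, z => cond (Nat.beq z b) 2 (cond ((row b).testBit z) 1 0) + 3 * prof bs z

/-- The points with a profile. -/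
noncomputable def profM (P : List ℕ) (k : ℕ) : ℕ :=
  (List.range 416).foldl
    (fun acc z => force (cond (Nat.beq (prof P z) k) (Nat.lor acc (Nat.shiftLeft 1 z)) acc) fun a => a) 0

/-- The invariant of a point, given the sets of the witnesses. -/
noncomputable def sigM (P : List ℕ) (ms : List ℕ) (y : ℕ) : List ℕ :=
  prof P y :: ms.map fun m => size (Nat.land m (row y))

/-- Equality of lists of numbers. -/
def sameL : List ℕ → List ℕ → Bool
  | [], [] => true
  | a :: l, b :: l' => Nat.beq a b && sameL l l'
  | _, _ => false

/-- Evaluated lists passed on. -/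
noncomputable def withL : List ℕ → (List ℕ → Bool) → Bool :=
  List.rec (fun k => k []) fun a _ ih k => withVal a fun a' => ih fun l => k (a' :: l)

/-- A step along the base. -/
noncomputable def baseStepB (i : ℕ) : Bool :=
  withL ((witE.getD i []).map (profM (baseE.take i))) fun ms =>
    withL (sigM (baseE.take i) ms (baseE.getD i 0)) fun s =>
      Nat.ble ((List.range 416).filter fun y => sameL (sigM (baseE.take i) ms y) s).length (sizeE.getD i 0)

/-- The end of the base. -/
noncomputable def baseEndB : Bool :=
  withL ((witE.getD 5 []).map (profM baseE)) fun ms =>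
    Nat.beq baseE.length 5 && baseE.all (fun b => Nat.blt b 416) && Nat.ble sizeE.prod 1509580800 &&
      (List.range 416).all fun y => withL (sigM baseE ms y) fun s =>
        (List.range y).all fun z => !sameL (sigM baseE ms z) s

end Cfsg.Lib.SuzRecog
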