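import Cfsg.Agent.Lib.SuzRecog.Side

/-!
# The points at distance two and their adjacency
-/

set_option autoImplicit false
set_option linter.unusedSectionVars false
set_option maxRecDepth 100000

namespace Cfsg.Lib.SuzRecog

open Cfsg MulAction Equiv Finset
open Cfsg.Lib.GTwoFour416 (grp)

namespace Setup

variable {Ω : Type*} [Fintype Ω] [DecidableEq Ω] {G : Subgroup (Perm Ω)} {a b c : Ω} (S : Setup G a b c)
variable {β : Pt → Ω} (hβ : S.IsBeta β)
include S hβ

open Classical in
/-- The points at distance two are their sets of neighbours. -/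
theorem far_bij :
    (∀ w, Rel G a c a w → ∃ i < 1365, S.nbrs β w = rS i) ∧
    (∀ i < 1365, ∃ w, Rel G a c a w ∧ S.nbrs β w = rS i) ∧
    ∀ w z, Rel G a c a w → Rel G a c a z → S.nbrs β w = S.nbrs β z → w = z := by
  obtain ⟨w0, hw0, h0⟩ := S.exists_root hβ
  obtain ⟨-, -, hreach, hrinj⟩ := orbX_facts
  have hex : ∀ i < 1365, ∃ w, Rel G a c a w ∧ S.nbrs β w = rS i := fun i hi => by
    obtain ⟨k, hk, e⟩ := hreach i hi
    exact ⟨S.ρ ⟨k, hk⟩ w0, (S.rel_rho' c _ _).2 hw0, by rw [S.nbrs_move hβ, h0]; exact e⟩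
  set C := univ.filter fun z => Rel G a c a z with hC
  set R := (range 1365).image rS with hR
  have hRc : R.card = 1365 := by
    rw [hR, card_image_of_injOn, card_range]
    intro i hi j hj e
    exact hrinj i (mem_range.1 hi) j (mem_range.1 hj) e
  have hRC : R ⊆ C.image (S.nbrs β) := fun X hX => by
    obtain ⟨i, hi, rfl⟩ := mem_image.1 hX
    obtain ⟨w, hw, e⟩ := hex i (mem_range.1 hi)
    exact mem_image.2 ⟨w, mem_filter.2 ⟨mem_univ w, hw⟩, e⟩
  have hle : (C.image (S.nbrs β)).card ≤ R.card := by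
    rw [hRc, ← S.card_orbC]
    exact card_image_le
  have heq := eq_of_subset_of_card_le hRC hle
  refine ⟨fun w hw => ?_, hex, fun w z hw hz e => ?_⟩
  · have : S.nbrs β w ∈ R := by
      rw [heq]; exact mem_image.2 ⟨w, mem_filter.2 ⟨mem_univ w, hw⟩, rfl⟩
    obtain ⟨i, hi, e⟩ := mem_image.1 this
    exact ⟨i, mem_range.1 hi, e.symm⟩
  · have hinj : Set.InjOn (S.nbrs β) C := card_image_iff.1 (by rw [← heq, hRc, hC, S.card_orbC])
    exact hinj (mem_coe.2 (mem_filter.2 ⟨mem_univ w, hw⟩)) (mem_coe.2 (mem_filter.2 ⟨mem_univ z, hz⟩)) e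

open Classical in
theorem root_adj {w0 : Ω} (hw0 : Rel G a c a w0) (h0 : S.nbrs β w0 = X0) {z : Ω} (hz : Rel G a c a z) :
    Rel G a b w0 z ↔ (X0 ∩ S.nbrs β z).card = 24 := by
  obtain ⟨hc96, he, hfix, h24, hvals⟩ := meet_facts
  obtain ⟨hto, hex, hinj⟩ := S.far_bij hβ
  obtain ⟨hroot, hrlt, -, -⟩ := orbX_facts
  set C := univ.filter fun z => Rel G a c a z with hC
  set N := univ.filter fun z => Rel G a c a z ∧ Rel G a b w0 z with hN
  let v : Ω → ℕ := fun z => (X0 ∩ S.nbrs β z).card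
  have hCc : C.card = 1365 := S.card_orbC
  have hval : ∀ z, Rel G a c a z → (v z = 96 ∧ z = w0) ∨ v z = 48 ∨ v z = 24 ∨
      (v z = 21 ∧ ∃ u ∈ U, (rS rootU).image ⇑u = S.nbrs β z) := by
    intro z hz
    obtain ⟨i, hi, e⟩ := hto z hz
    have hv : v z = (X0 ∩ rS i).card := by show (X0 ∩ S.nbrs β z).card = _; rw [e]
    rcases hvals i hi with ⟨h1, rfl⟩ | h1 | h1 | ⟨h1, hu⟩
    · exact Or.inl ⟨hv.trans h1, hinj z w0 hz hw0 (by rw [e, hroot, h0])⟩
    · exact Or.inr (Or.inl (hv.trans h1))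
    · exact Or.inr (Or.inr (Or.inl (hv.trans h1)))
    · exact Or.inr (Or.inr (Or.inr ⟨hv.trans h1, e ▸ hu⟩))
  -- the totals
  have hv' : ∀ z, v z = ∑ x ∈ X0, if x ∈ S.nbrs β z then 1 else 0 := fun z => by
    rw [sum_boole, Nat.cast_id]
    show (X0 ∩ S.nbrs β z).card = _
    congr 1
  have hall : ∑ z ∈ C, v z = 30240 := by
    simp only [hv']
    rw [sum_comm]
    have : ∀ x ∈ X0, ∑ z ∈ C, (if x ∈ S.nbrs β z then 1 else 0) = 315 := fun x _ => by
      rw [sum_boole, Nat.cast_id, hC, filter_filter, ← S.count_one hβ x]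
      congr 1
      refine filter_congr fun z _ => and_congr_right fun _ => ?_
      rw [S.mem_nbrs hβ]
      exact ⟨S.data.symm, S.data.symm⟩
    rw [sum_congr rfl this, sum_const, hc96, smul_eq_mul]
  have hNc : N.card = 320 := by
    have h := S.data.split fun z => Rel G a b w0 z
    rw [S.data.card_out, if_neg fun e => S.data.disjoint_BC (S.data.symm e) hw0] at h
    rw [S.card_beta hβ fun z => Rel G a b w0 z] at h
    have e2 : (univ.filter fun x : Pt => Rel G a b w0 (β x)).card = 96 := by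
      have := S.nbrs_card hβ hw0
      convert this using 2
      ext x; simp [S.mem_nbrs hβ]
    rw [e2] at h
    rw [hN]
    omega
  have hNsum : ∑ z ∈ N, v z = 7680 := by
    simp only [hv']
    rw [sum_comm]
    have key : ∀ x ∈ X0, (∑ z ∈ N, (if x ∈ S.nbrs β z then 1 else 0)) + (X0.filter fun y => Adj x y).card = 100 := by
      intro x hx
      have hr : Rel G a b w0 (β x) := (S.mem_nbrs hβ).1 (h0 ▸ hx)
      have h := S.data.split fun z => Rel G a b w0 z ∧ Rel G a b (β x) z
      have hc : (univ.filter fun z => Rel G a b w0 z ∧ Rel G a b (β x) z).card = 100 := by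
        convert (S.data.card_common hr).trans (S.params hβ).1
      rw [hc, if_neg fun e => S.data.disjoint_BC (S.data.symm e.1) hw0,
        S.card_beta hβ fun z => Rel G a b w0 z ∧ Rel G a b (β x) z] at h
      have e1 : (univ.filter fun y : Pt => Rel G a b w0 (β y) ∧ Rel G a b (β x) (β y)) = X0.filter fun y => Adj x y := by
        ext y
        simp only [mem_filter, mem_univ, true_and, S.adjB hβ, ← h0, S.mem_nbrs hβ]
      have e2 : ∑ z ∈ N, (if x ∈ S.nbrs β z then 1 else 0) =
          (univ.filter fun z => Rel G a c a z ∧ Rel G a b w0 z ∧ Rel G a b (β x) z).card := by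
        rw [sum_boole, Nat.cast_id, hN, filter_filter]
        congr 1
        refine filter_congr fun z _ => ?_
        rw [S.mem_nbrs hβ, and_assoc]
        exact and_congr_right fun _ => and_congr_right fun _ => ⟨S.data.symm, S.data.symm⟩
      rw [e1] at h
      omega
    have h2 := sum_congr rfl key (s₁ := X0)
    rw [sum_add_distrib, sum_const, hc96, smul_eq_mul, ← edgesF, he] at h2
    omega
  -- the classes
  set A := C.filter fun z => v z = 48 with hA
  set B := C.filter fun z => v z = 24 with hB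
  set D := C.filter fun z => v z = 21 with hD
  have hsplit : ∀ (f : Ω → ℕ), ∑ z ∈ C, f z = f w0 + ∑ z ∈ A, f z + ∑ z ∈ B, f z + ∑ z ∈ D, f z := by
    intro f
    have hw0C : w0 ∈ C := mem_filter.2 ⟨mem_univ w0, hw0⟩
    have hv0 : v w0 = 96 := by show (X0 ∩ S.nbrs β w0).card = 96; rw [h0, inter_self, hc96]
    have e : ∀ z ∈ C, f z = (if z = w0 then f z else 0) + (if v z = 48 then f z else 0) +
        (if v z = 24 then f z else 0) + (if v z = 21 then f z else 0) := by
      intro z hz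
      rcases hval z (mem_filter.1 hz).2 with ⟨h, rfl⟩ | h | h | ⟨h, -⟩
      · simp [h]
      · simp [h, show z ≠ w0 from fun e => by rw [e, hv0] at h; omega]
      · simp [h, show z ≠ w0 from fun e => by rw [e, hv0] at h; omega]
      · simp [h, show z ≠ w0 from fun e => by rw [e, hv0] at h; omega]
    rw [sum_congr rfl e, sum_add_distrib, sum_add_distrib, sum_add_distrib, sum_ite_eq' C w0 f, if_pos hw0C,
      ← sum_filter, ← sum_filter, ← sum_filter]
  have hBc : B.card = 320 := by
    rw [← h24]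
    refine card_bij' (fun z hz => (hto z (mem_filter.1 (mem_filter.1 hz).1).2).choose)
      (fun i hi => (hex i (mem_range.1 (mem_filter.1 hi).1)).choose) ?_ ?_ ?_ ?_
    · intro z hz
      obtain ⟨h1, h2⟩ := (hto z (mem_filter.1 (mem_filter.1 hz).1).2).choose_spec
      refine mem_filter.2 ⟨mem_range.2 h1, ?_⟩
      rw [← h2]; exact (mem_filter.1 hz).2
    · intro i hi
      obtain ⟨h1, h2⟩ := (hex i (mem_range.1 (mem_filter.1 hi).1)).choose_spec
      refine mem_filter.2 ⟨mem_filter.2 ⟨mem_univ _, h1⟩, ?_⟩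
      show (X0 ∩ S.nbrs β _).card = 24
      rw [h2]; exact (mem_filter.1 hi).2
    · intro z hz
      obtain ⟨h1, h2⟩ := (hto z (mem_filter.1 (mem_filter.1 hz).1).2).choose_spec
      obtain ⟨g1, g2⟩ := (hex _ h1).choose_spec
      exact hinj _ z g1 (mem_filter.1 (mem_filter.1 hz).1).2 (g2.trans h2.symm)
    · intro i hi
      obtain ⟨h1, h2⟩ := (hex i (mem_range.1 (mem_filter.1 hi).1)).choose_spec
      obtain ⟨g1, g2⟩ := (hto _ h1).choose_spec
      exact orbX_facts.2.2.2 _ g1 i (mem_range.1 (mem_filter.1 hi).1) (g2.symm.trans h2)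
  have hDc : D.card = 1024 := by
    have h1 := hsplit fun _ => 1
    have h2 := hsplit v
    simp only [sum_const, smul_eq_mul, mul_one, hCc, hBc] at h1
    rw [hall, sum_congr rfl (fun z hz => (mem_filter.1 hz).2 : ∀ z ∈ A, v z = 48),
      sum_congr rfl (fun z hz => (mem_filter.1 hz).2 : ∀ z ∈ B, v z = 24),
      sum_congr rfl (fun z hz => (mem_filter.1 hz).2 : ∀ z ∈ D, v z = 21)] at h2
    simp only [sum_const, smul_eq_mul, hBc] at h2
    have hv0 : v w0 = 96 := by show (X0 ∩ S.nbrs β w0).card = 96; rw [h0, inter_self, hc96]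
    omega
  -- no neighbour in the large class
  have hno : ∀ z ∈ N, v z = 48 ∨ v z = 24 := by
    intro z hz
    obtain ⟨hzC, hzA⟩ := (mem_filter.1 hz).2
    rcases hval z hzC with ⟨-, rfl⟩ | h | h | ⟨-, u, hu, e⟩
    · exact absurd hzA (S.data.rel_self z)
    · exact Or.inl h
    · exact Or.inr h
    exfalso
    have hsub : D ⊆ N := fun y hy => by
      obtain ⟨hyC, hyv⟩ := mem_filter.1 hy
      have hyC' := (mem_filter.1 hyC).2
      rcases hval y hyC' with ⟨h, -⟩ | h | h | ⟨-, u', hu', e'⟩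
      · omega
      · omega
      · omega
      have hk : u' * u⁻¹ ∈ U := mul_mem hu' (inv_mem hu)
      set k : ↥grp := ⟨u' * u⁻¹, U_le_grp hk⟩
      have hy1 : S.ρ k z = y := hinj _ y ((S.rel_rho' c k z).2 hzC) hyC' (by
        rw [S.nbrs_move hβ, ← e, ← e', ← image_mul]
        simp [k, mul_assoc])
      have hw1 : S.ρ k w0 = w0 := hinj _ w0 ((S.rel_rho' c k w0).2 hw0) hw0 (by
        rw [S.nbrs_move hβ, h0]; exact hfix _ hk)
      refine mem_filter.2 ⟨mem_univ y, hyC', ?_⟩
      rw [← hw1, ← hy1]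
      exact (S.rel_rho b k w0 z).2 hzA
    have := card_le_card hsub
    rw [hDc, hNc] at this
    omega
  have hN24 : ∀ z ∈ N, v z = 24 := by
    intro z hz
    rcases hno z hz with h | h
    · exfalso
      have h1 : ∑ y ∈ N, v y = 24 * 320 + 24 * (N.filter fun y => v y = 48).card := by
        have e : ∀ y ∈ N, v y = 24 + if v y = 48 then 24 else 0 := fun y hy => by
          rcases hno y hy with e | e <;> simp [e]
        rw [sum_congr rfl e, sum_add_distrib, sum_const, ← sum_filter, sum_const, hNc, smul_eq_mul, smul_eq_mul,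
          mul_comm 24, mul_comm 24]
      rw [hNsum] at h1
      have : 0 < (N.filter fun y => v y = 48).card := card_pos.2 ⟨z, mem_filter.2 ⟨hz, h⟩⟩
      omega
    · exact h
  have heq : N = B := eq_of_subset_of_card_le
    (fun y hy => mem_filter.2 ⟨mem_filter.2 ⟨mem_univ y, (mem_filter.1 hy).2.1⟩, hN24 y hy⟩)
    (by rw [hBc, hNc])
  refine ⟨fun h => hN24 z (mem_filter.2 ⟨mem_univ z, hz, h⟩), fun h => ?_⟩
  have : z ∈ B := mem_filter.2 ⟨mem_filter.2 ⟨mem_univ z, hz⟩, h⟩
  rw [← heq] at this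
  exact (mem_filter.1 this).2.2

/-- Adjacency of two points at distance two. -/
theorem far_adj {w z : Ω} (hw : Rel G a c a w) (hz : Rel G a c a z) :
    Rel G a b w z ↔ (S.nbrs β w ∩ S.nbrs β z).card = 24 := by
  obtain ⟨w0, hw0, h0⟩ := S.exists_root hβ
  obtain ⟨k, hk⟩ : ∃ k, S.ρ k w0 = w := by
    obtain ⟨k1, e1⟩ := (S.orbit_rho c w).1 hw
    obtain ⟨k0, e0⟩ := (S.orbit_rho c w0).1 hw0
    exact ⟨k1 * k0⁻¹, by rw [map_mul, map_inv, Perm.mul_apply, ← e0]; simpa using e1⟩
  obtain ⟨z, rfl⟩ := (S.ρ k).surjective z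
  subst hk
  rw [S.rel_rho, S.root_adj hβ hw0 h0 ((S.rel_rho' c k z).1 hz), S.nbrs_move hβ, S.nbrs_move hβ, h0,
    ← image_inter _ _ (k : Perm Pt).injective, card_image_of_injective _ (k : Perm Pt).injective]

end Setup

end Cfsg.Lib.SuzRecog
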