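import Cfsg.Agent.Lib.SuzRecog.GraphChecks
import Cfsg.Agent.Lib.GTwoFour416.Main
import Cfsg.Agent.S5746
import Cfsg.Agent.S1055
import Cfsg.Agent.S1059

/-!
# The graph of `G₂(4)` on 416 points
-/

set_option autoImplicit false
set_option maxRecDepth 100000

namespace Cfsg.Lib.SuzRecog

open Cfsg.Lib.CosetEnum MulAction Equiv
open Cfsg.Lib.GTwoFour416 (nib tab prm grp five five_le_grp)

/-- The 416 points. -/
abbrev Pt := Fin 416

/-- The adjacency. -/
abbrev Adj (x y : Pt) : Prop := (row (x : ℕ)).testBit (y : ℕ) = true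

/-- The base point. -/
def L0 : Pt := ⟨209, by norm_num⟩

theorem L0_base : L0 = GTwoFour416.base := rfl

theorem card_grp : Nat.card grp = 251596800 := by
  obtain ⟨e⟩ := Cfsg.Agent.S5746.nonempty_equiv GF4.card_eq
  rw [← Nat.card_congr e.toEquiv, Cfsg.Agent.S1059.result GF4.card_eq]
  norm_num

theorem simple_grp : IsSimpleGroup grp := by
  obtain ⟨e⟩ := Cfsg.Agent.S5746.nonempty_equiv GF4.card_eq
  have h : ∃ a : GF4, a ≠ 0 ∧ a ≠ 1 := by decide
  haveI := (Cfsg.Agent.S1055.result h).1
  exact e.symm.isSimpleGroup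

theorem byte_ones : ∀ i < 256, ((List.range 8).filter fun v => i.testBit v).length = nib 4 byteOnes i := by
  decide +kernel

theorem ones_eq : ∀ (n m : ℕ), ((List.range (8 * n)).filter fun v => m.testBit v).length = ones n m
  | 0, m => rfl
  | n + 1, m => by
    show _ = nib 4 byteOnes (Nat.land m 255) + force (Nat.shiftRight m 8) fun m' => ones n m'
    rw [force_eq, ← ones_eq n, ← byte_ones (Nat.land m 255) (Nat.lt_succ_of_le Nat.and_le_right),
      show 8 * (n + 1) = 8 + 8 * n by omega, List.range_add, List.filter_append, List.length_append,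
      List.filter_map, List.length_map]
    congr 1
    · congr 1
      refine List.filter_congr fun v hv => ?_
      show _ = (m &&& 255).testBit v
      rw [Nat.testBit_land, show (255 : ℕ).testBit v = true by
        have := List.mem_range.1 hv
        interval_cases v <;> rfl, Bool.and_true]
    · congr 1
      refine List.filter_congr fun v _ => ?_
      show m.testBit (8 + v) = (m >>> 8).testBit v
      rw [Nat.testBit_shiftRight]

theorem size_card (m : ℕ) : size m = (Finset.univ.filter fun v : Pt => m.testBit (v : ℕ) = true).card := by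
  rw [size, ← ones_eq, ← List.toFinset_card_of_nodup (List.nodup_range.filter _),
    ← Finset.card_image_of_injective (f := fun v : Pt => (v : ℕ))
      (Finset.univ.filter fun v : Pt => m.testBit (v : ℕ) = true) Fin.val_injective]
  congr 1
  ext v
  simp only [List.mem_toFinset, List.mem_filter, List.mem_range, Finset.mem_image, Finset.mem_filter,
    Finset.mem_univ, true_and]
  exact ⟨fun ⟨hv, hb⟩ => ⟨⟨v, hv⟩, hb, rfl⟩, fun ⟨z, hz, e⟩ => e ▸ ⟨z.isLt, hz⟩⟩

theorem mem_members {m v : ℕ} : v ∈ members m ↔ v < 416 ∧ m.testBit v = true := by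
  simp [members]

theorem imgM_bit (T m w : ℕ) :
    (imgM T m).testBit w = true ↔ ∃ v < 416, m.testBit v = true ∧ nib 9 T v = w := by
  have key : ∀ (l : List ℕ) (acc : ℕ),
      (l.foldl (fun acc v => force (Nat.lor acc (Nat.shiftLeft 1 (nib 9 T v))) fun a => a) acc).testBit w = true ↔
        acc.testBit w = true ∨ ∃ v ∈ l, nib 9 T v = w := by
    intro l
    induction l with
    | nil => simp
    | cons v l ih =>
      intro acc
      rw [List.foldl_cons, ih, force_eq]
      change ((acc ||| 1 <<< nib 9 T v).testBit w = true ∨ _) ↔ _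
      rw [Nat.testBit_lor, Bool.or_eq_true, Nat.one_shiftLeft, Nat.testBit_two_pow, decide_eq_true_eq]
      simp [or_assoc]
  rw [imgM, key]
  simp only [Nat.zero_testBit, Bool.false_eq_true, false_or, mem_members, and_assoc]

/-- The element of a word. -/
noncomputable def el (w : List ℕ) : Perm Pt := wordVal prm w

theorem word_spec {e : List ℕ × ℕ} (h : wordB e = true) :
    el e.1 ∈ grp ∧ ∀ v : Pt, (el e.1 v : ℕ) = nib 9 e.2 v := by
  simp only [wordB, Bool.and_eq_true, List.all_eq_true, force_eq, List.mem_range, Nat.beq_eq, Nat.blt_eq] at h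
  refine ⟨?_, fun v => ?_⟩
  · refine Subgroup.closure_mono (Set.image_mono fun g hg => List.mem_range.1 hg)
      (wordVal_mem prm (u := e.1) (S := List.range 6) fun g hg => ⟨List.mem_range.2 (h.1 g hg), ?_⟩)
    have := h.1 g hg
    simp only [eps]
    omega
  · rw [h.2 v v.isLt]
    exact GTwoFour416.wordVal_apply h.1 v

theorem gen_spec (g : ℕ) (hg : g < 6) (v : Pt) : (prm g v : ℕ) = nib 9 (gTab g) v := by
  have h := gen_ok
  simp only [genB, Bool.and_eq_true, List.all_eq_true, List.mem_range] at h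
  obtain ⟨-, h2⟩ := word_spec (h.2 g hg)
  rw [← h2 v]
  simp only [el, wordVal, gen, if_neg (show ¬ g = eps by simp only [eps]; omega), one_mul, mul_one]

/-- A table moves bits as its element does. -/
theorem imgM_apply {T : ℕ} {g : Perm Pt} (hT : ∀ v : Pt, (g v : ℕ) = nib 9 T v) (m : ℕ) (v : Pt) :
    (imgM T m).testBit ((g v : Pt) : ℕ) = true ↔ m.testBit (v : ℕ) = true := by
  rw [imgM_bit]
  constructor
  · rintro ⟨u, hu, hm, e⟩
    have e' : g ⟨u, hu⟩ = g v := Fin.ext ((hT ⟨u, hu⟩).trans e)
    rw [← g.injective e']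
    exact hm
  · exact fun hm => ⟨v, v.isLt, hm, (hT v).symm⟩

theorem pres_all : ∀ g < 6, presB g = true
  | 0, _ => pres0 | 1, _ => pres1 | 2, _ => pres2 | 3, _ => pres3 | 4, _ => pres4 | 5, _ => pres5
  | g + 6, h => absurd h (by omega)

/-- The automorphisms of the graph. -/
def AutE : Subgroup (Perm Pt) where
  carrier := {g | ∀ x y, Adj (g x) (g y) ↔ Adj x y}
  mul_mem' := fun {g h} hg hh x y => (hg _ _).trans (hh x y)
  one_mem' := fun _ _ => Iff.rfl
  inv_mem' := fun {g} hg x y => by
    have := hg (g⁻¹ x) (g⁻¹ y)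
    simpa using this.symm

theorem grp_le_aut : grp ≤ AutE := by
  refine (Subgroup.closure_le _).2 ?_
  rintro _ ⟨g, hg, rfl⟩ x y
  have h := pres_all g hg
  simp only [presB, List.all_eq_true, List.mem_range, Nat.beq_eq] at h
  have hT := gen_spec g hg
  show (row (prm g x : ℕ)).testBit (prm g y : ℕ) = true ↔ _
  rw [hT x, ← h x x.isLt]
  exact imgM_apply hT _ y

theorem graph_basic : (∀ x y : Pt, Adj x y → Adj y x) ∧ (∀ x : Pt, ¬ Adj x x) := by
  have h := sym_ok
  simp only [symB, List.all_eq_true, List.mem_range, force_eq, Bool.and_eq_true, Bool.not_eq_true',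
    beq_iff_eq] at h
  refine ⟨fun x y hxy => ?_, fun x => ?_⟩
  · show (row (y : ℕ)).testBit (x : ℕ) = true
    rw [← (h x x.isLt).2 y y.isLt]; exact hxy
  · show ¬ (row (x : ℕ)).testBit (x : ℕ) = true
    rw [(h x x.isLt).1.2]; exact Bool.false_ne_true

theorem adj_symm {x y : Pt} (h : Adj x y) : Adj y x := graph_basic.1 x y h

theorem adj_irrefl (x : Pt) : ¬ Adj x x := graph_basic.2 x

theorem base_row (z : Pt) : (Adj L0 z ↔ nib 4 GTwoFour416.partsAll.part z = 2) ∧
    (Adj L0 z → size (Nat.land (row 209) (row z)) = 36) ∧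
    (z ≠ L0 → ¬ Adj L0 z → nib 4 GTwoFour416.partsAll.part z = 3 ∧ size (Nat.land (row 209) (row z)) = 20) := by
  have h := baseRow_ok
  simp only [baseRowB, List.all_eq_true, List.mem_range, force_eq, Bool.and_eq_true, Bool.or_eq_true,
    Bool.not_eq_true', beq_iff_eq, Nat.beq_eq] at h
  obtain ⟨⟨h1, h2⟩, h3⟩ := h z z.isLt
  have hiff : Adj L0 z ↔ nib 4 GTwoFour416.partsAll.part z = 2 := by
    show (row 209).testBit (z : ℕ) = true ↔ _
    rw [h1, Nat.beq_eq]
  refine ⟨hiff, fun hz => ?_, fun hne hz => ?_⟩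
  · exact h2.resolve_left fun e => by rw [← Bool.not_eq_true, Nat.beq_eq] at e; exact e (hiff.1 hz)
  · have hp := GTwoFour416.parts_get GTwoFour416.all_ok z
    have h0 := GTwoFour416.part_all_pos z
    have hl : GTwoFour416.partsAll.roots.length = 3 := rfl
    have hc : nib 4 GTwoFour416.partsAll.part z = 3 := by
      rcases (by omega : nib 4 GTwoFour416.partsAll.part z = 1 ∨ nib 4 GTwoFour416.partsAll.part z = 2 ∨
        nib 4 GTwoFour416.partsAll.part z = 3) with e | e | e
      · exact absurd (Fin.ext (hp.2.2.2.2.1 e)) hne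
      · exact absurd (hiff.2 e) hz
      · exact e
    exact ⟨hc, h3.resolve_left fun e => by rw [← Bool.not_eq_true, Nat.beq_eq] at e; exact e hc⟩

theorem row_sizes : size (row 209) = 100 := by decide +kernel

theorem trans416 (x : Pt) : ∃ g ∈ grp, g L0 = x := GTwoFour416.exists_move x

theorem fix_five {g : Perm Pt} (hg : g ∈ five) : g L0 = L0 := GTwoFour416.five_fix hg

theorem trans_base {v w : Pt} (hv : v ≠ L0) (hw : w ≠ L0) (h : Adj L0 v ↔ Adj L0 w) :
    ∃ k ∈ grp, k L0 = L0 ∧ k v = w := by
  have he : nib 4 GTwoFour416.partsAll.part v = nib 4 GTwoFour416.partsAll.part w := by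
    by_cases hA : Adj L0 v
    · rw [(base_row v).1.1 hA, (base_row w).1.1 (h.1 hA)]
    · rw [((base_row v).2.2 hv hA).1, ((base_row w).2.2 hw fun e => hA (h.2 e)).1]
  obtain ⟨k, hk, e⟩ := GTwoFour416.conn_five (GTwoFour416.part_all_pos v) he
  exact ⟨k, five_le_grp hk, fix_five hk, e⟩

theorem trans_pair {u v w : Pt} (hv : v ≠ u) (hw : w ≠ u) (h : Adj u v ↔ Adj u w) :
    ∃ k ∈ grp, k u = u ∧ k v = w := by
  obtain ⟨g, hg, rfl⟩ := trans416 u
  have hA := grp_le_aut hg
  obtain ⟨v, rfl⟩ := g.surjective v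
  obtain ⟨w, rfl⟩ := g.surjective w
  rw [hA, hA] at h
  obtain ⟨k, hk, k0, k1⟩ := trans_base (fun e => hv (congrArg g e)) (fun e => hw (congrArg g e)) h
  exact ⟨g * k * g⁻¹, mul_mem (mul_mem hg hk) (inv_mem hg), by simp [k0], by simp [k1]⟩

theorem common_base (z : Pt) : (Adj L0 z → (Finset.univ.filter fun w => Adj L0 w ∧ Adj z w).card = 36) ∧
    (z ≠ L0 → ¬ Adj L0 z → (Finset.univ.filter fun w => Adj L0 w ∧ Adj z w).card = 20) := by
  have e : (Finset.univ.filter fun w => Adj L0 w ∧ Adj z w).card = size (Nat.land (row 209) (row z)) := by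
    rw [size_card]
    congr 1
    refine Finset.filter_congr fun w _ => ?_
    show _ ↔ (row 209 &&& row (z : ℕ)).testBit (w : ℕ) = true
    rw [Nat.testBit_land, Bool.and_eq_true]
    rfl
  exact ⟨fun h => e.trans ((base_row z).2.1 h), fun hne h => e.trans ((base_row z).2.2 hne h).2⟩

theorem near_card (x : Pt) : (Finset.univ.filter fun v => Adj x v).card = 100 := by
  obtain ⟨g, hg, rfl⟩ := trans416 x
  rw [← row_sizes, size_card]
  refine (Finset.card_equiv g fun v => ?_).symm
  simp only [Finset.mem_filter, Finset.mem_univ, true_and]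
  exact (grp_le_aut hg L0 v).symm

theorem common_count {u v : Pt} :
    (Adj u v → (Finset.univ.filter fun w => Adj u w ∧ Adj v w).card = 36) ∧
    (v ≠ u → ¬ Adj u v → (Finset.univ.filter fun w => Adj u w ∧ Adj v w).card = 20) := by
  obtain ⟨g, hg, rfl⟩ := trans416 u
  have hA := grp_le_aut hg
  obtain ⟨v, rfl⟩ := g.surjective v
  have e : (Finset.univ.filter fun w => Adj (g L0) w ∧ Adj (g v) w).card =
      (Finset.univ.filter fun w => Adj L0 w ∧ Adj v w).card :=
    (Finset.card_equiv g fun w => by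
      simp only [Finset.mem_filter, Finset.mem_univ, true_and, hA L0 w, hA v w]).symm
  rw [e]
  exact ⟨fun h => (common_base v).1 ((hA _ _).1 h),
    fun hne h => (common_base v).2 (fun e => hne (congrArg g e)) fun e => h ((hA _ _).2 e)⟩

theorem far_card (x : Pt) : (Finset.univ.filter fun v => v ≠ x ∧ ¬ Adj x v).card = 315 := by
  have e : (Finset.univ.filter fun v => v ≠ x ∧ ¬ Adj x v) =
      (Finset.univ \ Finset.univ.filter fun v => Adj x v).erase x := by
    ext y
    simp [Finset.mem_erase, and_comm]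
  rw [e, Finset.card_erase_of_mem (by simp [adj_irrefl]), Finset.card_sdiff_of_subset (Finset.subset_univ _),
    Finset.card_univ, Fintype.card_fin, near_card]

end Cfsg.Lib.SuzRecog
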