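import Cfsg.Agent.Lib.SuzRecog.Defs

/-!
# The graph on 416 points
-/

set_option autoImplicit false
set_option maxRecDepth 100000
set_option Elab.async false

namespace Cfsg.Lib.SuzRecog

theorem gen_ok : genB = true := by decide +kernel
theorem sym_ok : symB = true := by decide +kernel
theorem baseRow_ok : baseRowB = true := by decide +kernel
theorem pres0 : presB 0 = true := by decide +kernel
theorem pres1 : presB 1 = true := by decide +kernel
theorem pres2 : presB 2 = true := by decide +kernel
theorem pres3 : presB 3 = true := by decide +kernel
theorem pres4 : presB 4 = true := by decide +kernel
theorem pres5 : presB 5 = true := by decide +kernel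

end Cfsg.Lib.SuzRecog
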