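import Cfsg.Agent.Lib.SuzRecog.Far
import Cfsg.Agent.Lib.SuzRecog.Base

/-!
# Two such groups have the same graph and are conjugate
-/

set_option autoImplicit false
set_option linter.unusedSectionVars false
set_option maxRecDepth 100000

namespace Cfsg.Lib.SuzRecog

open Cfsg MulAction Equiv Finset
open Cfsg.Lib.GTwoFour416 (grp)

variable {Ω : Type*} [Fintype Ω] [DecidableEq Ω] {G : Subgroup (Perm Ω)} {a b c : Ω}
variable {Ω' : Type*} [Fintype Ω'] [DecidableEq Ω'] {G' : Subgroup (Perm Ω')} {a' b' c' : Ω'}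

namespace Setup

/-- The graphs are isomorphic, equivariantly. -/
theorem exists_iso (S : Setup G a b c) (T : Setup G' a' b' c') : ∃ Ψ : Ω ≃ Ω', Ψ a = a' ∧
    (∀ k x, Ψ (S.ρ k x) = T.ρ k (Ψ x)) ∧ ∀ x y, Rel G' a' b' (Ψ x) (Ψ y) ↔ Rel G a b x y := by
  classical
  obtain ⟨β, hβ⟩ := S.exists_beta
  obtain ⟨β', hβ'⟩ := T.exists_beta
  obtain ⟨hto, hex, hinj⟩ := S.far_bij hβ
  obtain ⟨hto', hex', hinj'⟩ := T.far_bij hβ'
  have hsame : ∀ w, Rel G a c a w → ∃ w', Rel G' a' c' a' w' ∧ T.nbrs β' w' = S.nbrs β w := by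
    intro w hw
    obtain ⟨i, hi, e⟩ := hto w hw
    rw [e]
    exact hex' i hi
  haveI : Nonempty Ω' := ⟨a'⟩
  choose! γ hγC hγ using hsame
  choose! ι hι using hβ.surj
  let ψ : Ω → Ω' := fun x => if x = a then a' else if Rel G a b a x then β' (ι x) else γ x
  have ψa : ψ a = a' := if_pos rfl
  have ψB : ∀ v, ψ (β v) = β' v := fun v => by
    show ite _ _ _ = _
    rw [if_neg (S.data.ne_of_rel (hβ.mem v)).symm, if_pos (hβ.mem v), hβ.inj (hι _ (hβ.mem v))]
  have ψC : ∀ {w}, Rel G a c a w → ψ w = γ w := fun {w} hw => by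
    show ite _ _ _ = _
    rw [if_neg (S.data.C_ne hw), if_neg fun h => S.data.disjoint_BC h hw]
  have split3 : ∀ x, x = a ∨ (∃ v, β v = x) ∨ Rel G a c a x := fun x => by
    rcases S.data.cases x with h | h | h
    exacts [Or.inl h, Or.inr (Or.inl (hβ.surj x h)), Or.inr (Or.inr h)]
  have hCC : ∀ {w}, Rel G a c a w → Rel G' a' c' a' (ψ w) ∧ T.nbrs β' (ψ w) = S.nbrs β w := fun {w} hw => by
    rw [ψC hw]; exact ⟨hγC w hw, hγ w hw⟩
  have hinjψ : Function.Injective ψ := by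
    intro x y e
    rcases split3 x with rfl | ⟨u, rfl⟩ | hx <;> rcases split3 y with rfl | ⟨v, rfl⟩ | hy
    · rfl
    · rw [ψa, ψB] at e; exact absurd e (T.data.ne_of_rel (hβ'.mem v))
    · rw [ψa] at e; exact absurd e.symm (T.data.C_ne (hCC hy).1)
    · rw [ψa, ψB] at e; exact absurd e.symm (T.data.ne_of_rel (hβ'.mem u))
    · rw [ψB, ψB] at e; rw [hβ'.inj e]
    · rw [ψB] at e; exact (T.data.disjoint_BC (e ▸ hβ'.mem u) (hCC hy).1).elim
    · rw [ψa] at e; exact absurd e (T.data.C_ne (hCC hx).1)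
    · rw [ψB] at e; exact (T.data.disjoint_BC (e.symm ▸ hβ'.mem v) (hCC hx).1).elim
    · exact hinj x y hx hy ((hCC hx).2.symm.trans ((congrArg (T.nbrs β') e).trans (hCC hy).2))
  let Ψ : Ω ≃ Ω' := Equiv.ofBijective ψ
    ((Fintype.bijective_iff_injective_and_card ψ).2 ⟨hinjψ, by rw [S.data.hcard, T.data.hcard]⟩)
  refine ⟨Ψ, ψa, fun k x => ?_, fun x y => ?_⟩
  · show ψ (S.ρ k x) = T.ρ k (ψ x)
    rcases split3 x with rfl | ⟨v, rfl⟩ | hx
    · rw [S.fix, ψa, T.fix]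
    · rw [← hβ.equiv, ψB, ψB, hβ'.equiv]
    · have hx' := (S.rel_rho' c k x).2 hx
      refine hinj' _ _ (hCC hx').1 ((T.rel_rho' c' k _).2 (hCC hx).1) ?_
      rw [(hCC hx').2, T.nbrs_move hβ', (hCC hx).2, S.nbrs_move hβ]
  · show Rel G' a' b' (ψ x) (ψ y) ↔ _
    have hax : ∀ y, Rel G' a' b' a' (ψ y) ↔ Rel G a b a y := by
      intro y
      rcases split3 y with rfl | ⟨v, rfl⟩ | hy
      · rw [ψa]; exact iff_of_false (T.data.rel_self a') (S.data.rel_self y)
      · rw [ψB]; exact iff_of_true (hβ'.mem v) (hβ.mem v)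
      · exact iff_of_false (fun h => T.data.disjoint_BC h (hCC hy).1) fun h => S.data.disjoint_BC h hy
    have hCB : ∀ {w} (v : Pt), Rel G a c a w → (Rel G' a' b' (ψ w) (β' v) ↔ Rel G a b w (β v)) := fun {w} v hw => by
      rw [← T.mem_nbrs hβ', (hCC hw).2, S.mem_nbrs hβ]
    have sy : ∀ {p q : Ω}, (Rel G' a' b' (ψ p) (ψ q) ↔ Rel G a b p q) → (Rel G' a' b' (ψ q) (ψ p) ↔ Rel G a b q p) :=
      fun {p q} h => ⟨fun e => S.data.symm (h.1 (T.data.symm e)), fun e => T.data.symm (h.2 (S.data.symm e))⟩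
    rcases split3 x with rfl | ⟨u, rfl⟩ | hx
    · rw [ψa]; exact hax y
    · rcases split3 y with rfl | ⟨v, rfl⟩ | hy
      · exact sy (by rw [ψa]; exact hax _)
      · rw [ψB, ψB, T.adjB hβ', S.adjB hβ]
      · exact sy (by rw [ψB]; exact hCB u hy)
    · rcases split3 y with rfl | ⟨v, rfl⟩ | hy
      · exact sy (by rw [ψa]; exact hax _)
      · rw [ψB]; exact hCB v hx
      · rw [T.far_adj hβ' (hCC hx).1 (hCC hy).1, (hCC hx).2, (hCC hy).2, S.far_adj hβ hx hy]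

variable (S : Setup G a b c)
include S

/-- The automorphisms of the graph fixing the base point. -/
def autFix (_S : Setup G a b c) : Subgroup (Perm Ω) where
  carrier := {t | (∀ x y, Rel G a b (t x) (t y) ↔ Rel G a b x y) ∧ t a = a}
  mul_mem' := fun {g h} hg hh => ⟨fun x y => (hg.1 _ _).trans (hh.1 x y), by rw [Perm.mul_apply, hh.2, hg.2]⟩
  one_mem' := ⟨fun _ _ => Iff.rfl, rfl⟩
  inv_mem' := fun {g} hg => ⟨fun x y => by simpa using (hg.1 (g⁻¹ x) (g⁻¹ y)).symm, by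
    conv_lhs => rw [← hg.2]
    simp⟩

theorem rho_mem (k : ↥grp) : S.ρ k ∈ S.autFix := ⟨fun x y => S.rel_rho b k x y, S.fix k⟩

theorem card_autFix : Nat.card S.autFix ≤ 1509580800 := by
  classical
  obtain ⟨β, hβ⟩ := S.exists_beta
  obtain ⟨-, -, hinj⟩ := S.far_bij hβ
  let eB : Pt ≃ {y : Ω // Rel G a b a y} := Equiv.ofBijective (fun v => ⟨β v, hβ.mem v⟩)
    ⟨fun u v e => hβ.inj (congrArg Subtype.val e), fun y => by
      obtain ⟨v, hv⟩ := hβ.surj y.1 y.2
      exact ⟨v, Subtype.ext hv⟩⟩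
  have hB : ∀ (t : S.autFix) (y : Ω), Rel G a b a ((t : Perm Ω) y) ↔ Rel G a b a y := fun t y => by
    have := t.2.1 a y
    rwa [t.2.2] at this
  have hval : ∀ (t : S.autFix) (v : Pt), ∃ w, β w = (t : Perm Ω) (β v) := fun t v =>
    hβ.surj _ ((hB t _).2 (hβ.mem v))
  choose r hr using hval
  have hrinj : ∀ t, Function.Injective (r t) := fun t u v e => by
    have := congrArg β e
    rw [hr, hr] at this
    exact hβ.inj ((t : Perm Ω).injective this)
  let R : S.autFix → ↥AutE := fun t => ⟨Equiv.ofBijective (r t) (Finite.injective_iff_bijective.1 (hrinj t)),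
    fun u v => by
      show Adj (r t u) (r t v) ↔ Adj u v
      rw [← S.adjB hβ, hr, hr, t.2.1, S.adjB hβ]⟩
  refine (Nat.card_le_card_of_injective R fun s t e => ?_).trans card_AutE
  have hst : ∀ v, (s : Perm Ω) (β v) = (t : Perm Ω) (β v) := fun v => by
    rw [← hr, ← hr]
    exact congrArg β (congrArg (fun g : ↥AutE => (g : Perm Pt) v) e)
  refine Subtype.ext (Equiv.ext fun x => ?_)
  rcases S.data.cases x with rfl | hx | hx
  · exact s.2.2.trans t.2.2.symm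
  · obtain ⟨v, rfl⟩ := hβ.surj x hx
    exact hst v
  · have hC : ∀ (t : S.autFix), Rel G a c a ((t : Perm Ω) x) := fun t => by
      rcases S.data.cases ((t : Perm Ω) x) with h | h | h
      · exact absurd ((t : Perm Ω).injective (h.trans t.2.2.symm)) (S.data.C_ne hx)
      · exact (S.data.disjoint_BC ((hB t x).1 h) hx).elim
      · exact h
    refine hinj _ _ (hC s) (hC t) ?_
    ext v
    obtain ⟨u, rfl⟩ : ∃ u, r s u = v := (Finite.injective_iff_bijective.1 (hrinj s)).2 v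
    rw [S.mem_nbrs hβ, S.mem_nbrs hβ, hr, s.2.1, hst, t.2.1]

/-- A simple group of this order fixing the point is the point stabiliser. -/
theorem eq_range (σ : ↥grp →* Perm Ω) (hi : Function.Injective σ) (hX : ∀ k, σ k ∈ S.autFix) :
    σ.range = S.ρ.range := by
  classical
  haveI := simple_grp
  have hKX : S.ρ.range ≤ S.autFix := by
    rintro _ ⟨k, rfl⟩
    exact S.rho_mem k
  have hKc : Nat.card S.ρ.range = 251596800 := by
    rw [← Nat.card_congr (MonoidHom.ofInjective S.inj).toEquiv, card_grp]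
  let σ' : ↥grp →* ↥S.autFix := σ.codRestrict S.autFix hX
  set K' : Subgroup ↥S.autFix := S.ρ.range.subgroupOf S.autFix with hK'
  let f : ↥grp →* Perm (↥S.autFix ⧸ K') := (MulAction.toPermHom ↥S.autFix (↥S.autFix ⧸ K')).comp σ'
  have hidx : K'.index ≤ 6 := by
    have h := K'.card_mul_index
    rw [show Nat.card K' = 251596800 by
      rw [hK', Nat.card_congr (Subgroup.subgroupOfEquivOfLe hKX).toEquiv, hKc]] at h
    have := S.card_autFix
    omega
  have hker : f.ker = ⊤ := by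
    refine ((MonoidHom.normal_ker f).eq_bot_or_eq_top).resolve_left fun e => ?_
    have hle := Nat.card_le_card_of_injective f ((MonoidHom.ker_eq_bot_iff f).1 e)
    rw [card_grp, Nat.card_perm, ← Subgroup.index] at hle
    have := hle.trans (Nat.factorial_le hidx)
    exact absurd this (by decide)
  have hle : σ.range ≤ S.ρ.range := by
    rintro _ ⟨k, rfl⟩
    have hk : f k = 1 := MonoidHom.mem_ker.1 (hker ▸ Subgroup.mem_top k)
    have h1 : σ' k • ((1 : ↥S.autFix) : ↥S.autFix ⧸ K') = ((1 : ↥S.autFix) : ↥S.autFix ⧸ K') := by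
      have := DFunLike.congr_fun hk ((1 : ↥S.autFix) : ↥S.autFix ⧸ K')
      exact this
    rw [show σ' k • ((1 : ↥S.autFix) : ↥S.autFix ⧸ K') = ((σ' k * 1 : ↥S.autFix) : ↥S.autFix ⧸ K') from rfl,
      mul_one, QuotientGroup.eq, mul_one, inv_mem_iff] at h1
    exact h1
  refine Subgroup.eq_of_le_of_card_ge hle ?_
  rw [hKc, ← Nat.card_congr (MonoidHom.ofInjective hi).toEquiv, card_grp]

/-- Every other point has a common neighbour with the base point. -/
theorem common {y : Ω} (hy : y ≠ a) : ∃ z, Rel G a b a z ∧ Rel G a b y z := by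
  obtain ⟨β, hβ⟩ := S.exists_beta
  rcases S.data.cases y with h | h | h
  · exact absurd h hy
  · obtain ⟨u, rfl⟩ := hβ.surj y h
    obtain ⟨v, hv⟩ : (univ.filter fun v => Adj u v).Nonempty := card_pos.1 (by rw [near_card]; norm_num)
    exact ⟨β v, hβ.mem v, (S.adjB hβ).2 (mem_filter.1 hv).2⟩
  · obtain ⟨v, hv⟩ : (S.nbrs β y).Nonempty := card_pos.1 (by rw [S.nbrs_card hβ h]; norm_num)
    exact ⟨β v, hβ.mem v, (S.mem_nbrs hβ).1 hv⟩

/-- A transitive group of automorphisms with this point stabiliser is the given group. -/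
theorem eq_group {H : Subgroup (Perm Ω)} (hA : ∀ g ∈ H, ∀ x y, Rel G a b (g x) (g y) ↔ Rel G a b x y)
    (htr : ∀ z, ∃ g ∈ H, g a = z) (hst : ∀ g, g ∈ H ∧ g a = a ↔ ∃ k, S.ρ k = g) : H = G := by
  have hpt : ∀ z, ∀ k ∈ G, k z = z → k ∈ H := by
    intro z k hk hkz
    obtain ⟨g, hg, rfl⟩ := htr z
    obtain ⟨m, hm, hmg⟩ := S.data.trans (g a)
    set t : Perm Ω := m⁻¹ * g with ht
    have ht' : t ∈ S.autFix := ⟨fun x y => by
      have h1 := hA g hg x y
      have h2 := S.data.rel_smul b (inv_mem hm) (g x) (g y)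
      exact h2.trans h1, by rw [ht, Perm.mul_apply, ← hmg]; simp⟩
    have he := S.eq_range ((MulAut.conj t).toMonoidHom.comp S.ρ) ((MulAut.conj t).injective.comp S.inj) fun j =>
      (show t * S.ρ j * t⁻¹ ∈ S.autFix from mul_mem (mul_mem ht' (S.rho_mem j)) (inv_mem ht'))
    obtain ⟨j0, hj0⟩ := S.surj (m⁻¹ * k * m) (mul_mem (mul_mem (inv_mem hm) hk) hm) (by
      simp only [Perm.mul_apply]
      rw [hmg, hkz, ← hmg]
      simp)
    have hk' : m⁻¹ * k * m ∈ ((MulAut.conj t).toMonoidHom.comp S.ρ).range := by rw [he]; exact ⟨j0, hj0⟩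
    obtain ⟨j, hj⟩ := hk'
    have e : k = g * S.ρ j * g⁻¹ := by
      have hj' : t * S.ρ j * t⁻¹ = m⁻¹ * k * m := hj
      rw [ht] at hj'
      calc k = m * (m⁻¹ * k * m) * m⁻¹ := by group
        _ = _ := by rw [← hj']; group
    rw [e]
    exact mul_mem (mul_mem hg ((hst _).2 ⟨j, rfl⟩).1) (inv_mem hg)
  have hD : ∀ y, ∃ k ∈ H ⊓ G, k a = y := by
    intro y
    by_cases hy : y = a
    · exact ⟨1, one_mem _, by simp [hy]⟩
    obtain ⟨z, hz, hyz⟩ := S.common hy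
    obtain ⟨m, hm, rfl⟩ := S.data.trans z
    have hb' : ∀ {x}, Rel G a b x (m a) → Rel G a b a (m⁻¹ x) := fun {x} hx => by
      have h2 := (S.data.rel_smul b (inv_mem hm) x (m a)).2 hx
      rw [show m⁻¹ (m a) = a by simp] at h2
      exact S.data.symm h2
    obtain ⟨p, hp⟩ := (S.orbit_rho b _).1 (hb' hz)
    obtain ⟨q, hq⟩ := (S.orbit_rho b _).1 (hb' hyz)
    set k : Perm Ω := m * (S.ρ q * (S.ρ p)⁻¹) * m⁻¹ with hk
    have hkG : k ∈ G := mul_mem (mul_mem hm (mul_mem (S.mem q) (inv_mem (S.mem p)))) (inv_mem hm)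
    have hfix : (S.ρ q * (S.ρ p)⁻¹) a = a := by
      rw [← map_inv, ← map_mul]
      exact S.fix _
    refine ⟨k, ⟨hpt (m a) k hkG (by rw [hk]; simp only [Perm.mul_apply, Perm.inv_def, Equiv.symm_apply_apply] at *; rw [hfix]), hkG⟩, ?_⟩
    have e3 : (S.ρ p)⁻¹ (m⁻¹ a) = b := by rw [← hp]; simp
    rw [hk]
    simp only [Perm.mul_apply] at *
    rw [e3, hq]
    simp
  refine le_antisymm (fun g hg => ?_) fun g hg => ?_
  · obtain ⟨k, hk, e⟩ := hD (g a)
    obtain ⟨j, hj⟩ := (hst (k⁻¹ * g)).1 ⟨mul_mem (inv_mem hk.1) hg, by rw [Perm.mul_apply, ← e]; simp⟩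
    have := mul_mem hk.2 (hj ▸ S.mem j : k⁻¹ * g ∈ G)
    simpa using this
  · obtain ⟨k, hk, e⟩ := hD (g a)
    obtain ⟨j, hj⟩ := S.surj (k⁻¹ * g) (mul_mem (inv_mem hk.2) hg) (by rw [Perm.mul_apply, ← e]; simp)
    have := mul_mem hk.1 ((hst _).2 ⟨j, hj⟩).1
    simpa using this

/-- Two such groups are isomorphic. -/
theorem nonempty_equiv {Ω₂ : Type*} [Fintype Ω₂] [DecidableEq Ω₂] {G₂ : Subgroup (Perm Ω₂)} {a₂ b₂ c₂ : Ω₂}
    (T : Setup G₂ a₂ b₂ c₂) : Nonempty (G₂ ≃* G) := by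
  obtain ⟨Ψ, hΨa, hΨk, hΨ⟩ := T.exists_iso S
  let η : Perm Ω₂ ≃* Perm Ω := Ψ.permCongrHom
  have hη : ∀ g z, η g z = Ψ (g (Ψ.symm z)) := fun g z => rfl
  set H : Subgroup (Perm Ω) := G₂.map η.toMonoidHom with hH
  have hA : ∀ g ∈ H, ∀ x y, Rel G a b (g x) (g y) ↔ Rel G a b x y := by
    rintro _ ⟨g, hg, rfl⟩ x y
    show Rel G a b (η g x) (η g y) ↔ _
    rw [hη, hη, hΨ, T.data.rel_smul b₂ hg, ← hΨ]
    simp
  have hs : Ψ.symm a = a₂ := by rw [← hΨa]; simp
  have htr : ∀ z, ∃ g ∈ H, g a = z := fun z => by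
    obtain ⟨g, hg, e⟩ := T.data.trans (Ψ.symm z)
    exact ⟨η g, ⟨g, hg, rfl⟩, by rw [hη, hs, e]; simp⟩
  have hρ : ∀ k, η (T.ρ k) = S.ρ k := fun k => Equiv.ext fun z => by
    rw [hη, hΨk]; simp
  have heq := S.eq_group hA htr fun g => by
    constructor
    · rintro ⟨⟨g0, hg0, rfl⟩, hga⟩
      have h0 : g0 a₂ = a₂ := by
        have h' : Ψ (g0 (Ψ.symm a)) = a := hga
        rw [hs, ← hΨa] at h'
        exact Ψ.injective h'
      obtain ⟨k, rfl⟩ := T.surj g0 hg0 h0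
      exact ⟨k, (hρ k).symm⟩
    · rintro ⟨k, rfl⟩
      exact ⟨⟨T.ρ k, T.mem k, hρ k⟩, S.fix k⟩
  exact ⟨(η.subgroupMap G₂).trans (MulEquiv.subgroupCongr heq)⟩

end Setup

end Cfsg.Lib.SuzRecog
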