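import Cfsg.Agent.Lib.SuzRecog.Iso
import Cfsg.Agent.S5746

/-!
# The presented group is a model
-/

set_option autoImplicit false
set_option maxRecDepth 100000

namespace Cfsg.Lib.SuzRecog

open Cfsg MulAction Equiv
open Cfsg.Lib.CosetEnum Cfsg.Spor
open Cfsg.Lib.GTwoFour416 (grp)

/-- A simple group with a suitable coset action gives a setup. -/
theorem setup_of_coset {X : Type*} [Group X] [IsSimpleGroup X] {H : Subgroup X} (hidx : H.index = 1782)
    {Ω : Type*} [Fintype Ω] [DecidableEq Ω] (f : X →* Perm Ω) (Φ : X ⧸ H → Ω) (hΦ : Function.Bijective Φ)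
    (heq : ∀ (g : X) (q : X ⧸ H), Φ (g • q) = f g (Φ q)) (e0 : H ≃* grp) {qb qc : X ⧸ H}
    (hb : (orbit H qb).ncard = 416) (hc : (orbit H qc).ncard = 1365) :
    Function.Injective f ∧ Nonempty (Setup f.range (Φ ((1 : X) : X ⧸ H)) (Φ qb) (Φ qc)) := by
  classical
  have hval : ∀ g : X, Φ (g : X ⧸ H) = f g (Φ ((1 : X) : X ⧸ H)) := by
    intro g
    rw [← heq]
    exact congrArg Φ (congrArg QuotientGroup.mk (mul_one g).symm)
  have hmem : ∀ g : X, f g (Φ ((1 : X) : X ⧸ H)) = Φ ((1 : X) : X ⧸ H) ↔ g ∈ H := by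
    intro g
    rw [← hval, hΦ.1.eq_iff, QuotientGroup.eq, mul_one, inv_mem_iff]
  have hinj : Function.Injective f := by
    refine (MonoidHom.ker_eq_bot_iff f).1 ((f.normal_ker.eq_bot_or_eq_top).resolve_right fun e => ?_)
    have hall : ∀ g, g ∈ H := fun g => (hmem g).1 (by
      rw [MonoidHom.mem_ker.1 (e ▸ Subgroup.mem_top g : g ∈ f.ker)]; rfl)
    rw [show H = ⊤ from (Subgroup.eq_top_iff' H).2 hall, Subgroup.index_top] at hidx
    exact absurd hidx (by decide)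
  have horb : ∀ q, orbit (stabilizer f.range (Φ ((1 : X) : X ⧸ H))) (Φ q) = Φ '' orbit H q := by
    intro q
    ext z
    constructor
    · rintro ⟨⟨⟨_, g, rfl⟩, hg⟩, rfl⟩
      exact ⟨g • q, ⟨⟨g, (hmem g).1 hg⟩, rfl⟩, heq g q⟩
    · rintro ⟨_, ⟨⟨g, hg⟩, rfl⟩, rfl⟩
      exact ⟨⟨⟨f g, g, rfl⟩, (hmem g).2 hg⟩, (heq g q).symm⟩
  refine ⟨hinj, ⟨{
    data := ⟨?_, fun z => ?_, ?_, ?_⟩
    ρ := (f.comp H.subtype).comp e0.symm.toMonoidHom
    inj := (hinj.comp H.subtype_injective).comp e0.symm.injective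
    mem := fun k => ⟨_, rfl⟩
    fix := fun k => (hmem _).2 (e0.symm k).2
    surj := ?_ }⟩⟩
  · rw [← Nat.card_eq_fintype_card, ← Nat.card_congr (Equiv.ofBijective Φ hΦ), ← Subgroup.index, hidx]
  · obtain ⟨q, rfl⟩ := hΦ.2 z
    obtain ⟨g, rfl⟩ := QuotientGroup.mk_surjective q
    exact ⟨f g, ⟨g, rfl⟩, (hval g).symm⟩
  · rw [horb, Set.ncard_image_of_injective _ hΦ.1, hb]
  · rw [horb, Set.ncard_image_of_injective _ hΦ.1, hc]
  · rintro _ ⟨g, rfl⟩ hg
    exact ⟨e0 ⟨g, (hmem g).1 hg⟩, by simp⟩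

/-- The presented group gives a setup. -/
theorem exists_model : ∃ (n : ℕ) (f : Cfsg.Spor.Suz →* Perm (Fin n)) (a b c : Fin n),
    Function.Injective f ∧ Nonempty (Setup f.range a b c) := by
  classical
  let N := SuzPres.numbering
  let x : ℕ → Cfsg.Spor.Suz := N.gens Suz.extra
  have hx : ∀ g, x g * x g = 1 := N.gens_mul_self Suz.extra
  have hk : N.k ≤ eps := by decide
  have hgen := N.closure_gens Suz.extra
  have hR : SuzG24.cert.R0 = N.pairs ++ SuzPres.extra := by decide +kernel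
  have hrel : ∀ r ∈ SuzG24.cert.R0, wordVal x r = 1 := fun r hr =>
    N.wordVal_gens hk (SuzPres.map_extra x hx) r (hR ▸ hr)
  obtain ⟨f, hf⟩ := N.exists_hom hk Suz.extra SuzG24.cert_valid hR rfl
    (SuzPres.map_extra _ fun g => tperm_mul_self _ _ _ g)
  have hK := N.map_closure Suz.extra
    (Us := [Suz.a, Suz.b, Suz.c, Suz.d, Suz.e, Suz.f])
    (U := SuzG24.subWords)
    (by simp [SuzG24.subWords, wordVal, gen, eps, N, SuzPres.numbering, SuzPres.num, pow_succ, mul_assoc])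
    (s := {Suz.a, Suz.b, Suz.c, Suz.d, Suz.e, Suz.f})
    (by ext w; simp)
  obtain ⟨hidx, Φ, hΦ, heq, -⟩ := SuzG24.cert_valid.index_eq hx hgen hrel f hf hK
  replace hidx : _ = 1782 := hidx
  have hcardS : Nat.card Cfsg.Spor.Suz = 448345497600 := SuzPres.isSuz.2
  haveI : Finite Cfsg.Spor.Suz := Nat.finite_of_card_ne_zero (by rw [hcardS]; decide)
  haveI := SuzPres.isSuz.1
  have hcardH : ∀ H : Subgroup Cfsg.Spor.Suz, H.index = 1782 → Nat.card H = 251596800 := fun H h => by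
    have := Subgroup.card_mul_index H
    rw [h, hcardS] at this
    omega
  obtain ⟨qb, hqb, -, -⟩ :=
    exists_orbit_ncard SuzG24.cert_valid.perm (by decide) SuzG24.orb0_ok (by decide) f hf hK hΦ heq
  obtain ⟨qc, hqc, -, -⟩ :=
    exists_orbit_ncard SuzG24.cert_valid.perm (by decide) SuzG24.orb1_ok (by decide) f hf hK hΦ heq
  obtain ⟨σ, -, hσrange, -⟩ := exists_restrict (k' := 6) x f (k := 7) SuzG24.cert_valid.perm
    (by decide) hf SuzG24.orb0_ok Cfsg.Lib.GTwoFour416.tab_perm Cfsg.Agent.S5746.restrict_ok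
    (by decide) hK
  have hσ : Function.Bijective σ.rangeRestrict := by
    refine σ.rangeRestrict_surjective.bijective_of_nat_card_le ?_
    rw [hcardH _ hidx, hσrange]
    exact Cfsg.Lib.GTwoFour416.card_grp_ge
  let e0 : _ ≃* grp := (MulEquiv.ofBijective _ hσ).trans (MulEquiv.subgroupCongr hσrange)
  obtain ⟨hinj, hS⟩ := setup_of_coset hidx f Φ hΦ heq e0 hqb hqc
  exact ⟨_, f, _, _, _, hinj, hS⟩

end Cfsg.Lib.SuzRecog
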