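import Cfsg.Agent.Lib.SuzRecog.Defs

/-!
# The set of 96 points and its orbit
-/

set_option autoImplicit false
set_option maxRecDepth 100000
set_option Elab.async false

namespace Cfsg.Lib.SuzRecog

theorem chain_ok : chainB = true := by decide +kernel
theorem cand_ok : candB = true := by decide +kernel
theorem orbX_ok : orbXB = true := by decide +kernel
theorem meet_ok : meetB = true := by decide +kernel

end Cfsg.Lib.SuzRecog
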