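import Cfsg.Agent.Lib.SuzRecog.Chain
import Cfsg.Agent.Lib.SuzRecog.OrbitChecks

/-!
# The orbit of a set of 96 points
-/

set_option autoImplicit false
set_option maxRecDepth 100000

namespace Cfsg.Lib.SuzRecog

open Cfsg.Lib.CosetEnum MulAction Equiv
open Cfsg.Lib.GTwoFour416 (nib grp)

/-- The set of points of a mask. -/
def toSet (m : ℕ) : Finset Pt := Finset.univ.filter fun v : Pt => m.testBit (v : ℕ) = true

/-- The set of 96 points. -/
def X0 : Finset Pt := toSet setX

/-- A set in the orbit. -/
noncomputable def rS (i : ℕ) : Finset Pt := toSet (rX i)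

/-- Twice the edges inside a set. -/
noncomputable def edgesF (X : Finset Pt) : ℕ := ∑ v ∈ X, (X.filter fun w => Adj v w).card

/-- The two group. -/
noncomputable def U : Subgroup (Perm Pt) := Subgroup.closure (elC twoU '' {i | i < 12})

theorem mem_toSet {m : ℕ} {v : Pt} : v ∈ toSet m ↔ m.testBit (v : ℕ) = true := by simp [toSet]

theorem size_toSet (m : ℕ) : size m = (toSet m).card := size_card m

theorem meet_size (m m' : ℕ) : size (Nat.land m m') = (toSet m ∩ toSet m').card := by
  rw [size_toSet]
  congr 1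
  ext v
  simp only [mem_toSet, Finset.mem_inter]
  show (m &&& m').testBit (v : ℕ) = true ↔ _
  rw [Nat.testBit_land, Bool.and_eq_true]

theorem toSet_inj {m m' : ℕ} (h : m < 2 ^ 416) (h' : m' < 2 ^ 416) (e : toSet m = toSet m') : m = m' := by
  refine Nat.eq_of_testBit_eq fun i => ?_
  by_cases hi : i < 416
  · have := Finset.ext_iff.1 e ⟨i, hi⟩
    rw [mem_toSet, mem_toSet] at this
    exact Bool.eq_iff_iff.2 this
  · rw [Nat.testBit_lt_two_pow (lt_of_lt_of_le h (Nat.pow_le_pow_right two_pos (by omega))),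
      Nat.testBit_lt_two_pow (lt_of_lt_of_le h' (Nat.pow_le_pow_right two_pos (by omega)))]

theorem edges_eq (m : ℕ) : edges m = edgesF (toSet m) := by
  have key : ∀ (l : List ℕ) (acc : ℕ),
      l.foldl (fun acc v => force (acc + size (Nat.land (row v) m)) fun a => a) acc =
        acc + (l.map fun v => size (Nat.land (row v) m)).sum := by
    intro l
    induction l with
    | nil => simp
    | cons v l ih =>
      intro acc
      rw [List.foldl_cons, ih, force_eq, List.map_cons, List.sum_cons, add_assoc]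
  rw [edges, key, Nat.zero_add, ← List.sum_toFinset _ (show (members m).Nodup from List.nodup_range.filter _)]
  refine (Finset.sum_bij (fun (v : Pt) _ => (v : ℕ)) ?_ ?_ ?_ ?_).symm
  · intro v hv
    rw [List.mem_toFinset, mem_members]
    exact ⟨v.isLt, mem_toSet.1 hv⟩
  · intro v _ w _ e; exact Fin.ext e
  · intro v hv
    rw [List.mem_toFinset, mem_members] at hv
    exact ⟨⟨v, hv.1⟩, mem_toSet.2 hv.2, rfl⟩
  · intro v _
    rw [meet_size, Finset.inter_comm]
    congr 1
    ext w
    simp only [Finset.mem_filter, Finset.mem_inter, mem_toSet]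

theorem image_toSet {T : ℕ} {g : Perm Pt} (hT : ∀ v : Pt, (g v : ℕ) = nib 9 T v) (m : ℕ) :
    (toSet m).image g = toSet (imgM T m) := by
  ext w
  obtain ⟨v, rfl⟩ := g.surjective w
  rw [mem_toSet, imgM_apply hT m v, Finset.mem_image]
  exact ⟨fun ⟨u, hu, e⟩ => g.injective e ▸ mem_toSet.1 hu, fun h => ⟨v, mem_toSet.2 h, rfl⟩⟩

theorem image_mul (g h : Perm Pt) (X : Finset Pt) : X.image ⇑(g * h) = (X.image ⇑h).image ⇑g := by
  rw [Finset.image_image]
  rfl

theorem chain_facts : (∀ e ∈ twoU, wordB e = true) ∧ twoU.length = 12 ∧ IsPGroup 2 U := by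
  haveI : Fact (Nat.Prime 2) := ⟨Nat.prime_two⟩
  have h := chain_ok
  simp only [chainB, Bool.and_eq_true, List.all_eq_true, List.mem_range, Nat.beq_eq, Nat.blt_eq] at h
  obtain ⟨⟨⟨⟨hl, hts⟩, hsl⟩, hcl⟩, h⟩ := h
  refine ⟨hts, hl, isPGroup_chain (elC twoU) 12 fun i hi => ?_⟩
  obtain ⟨⟨hs, hsq⟩, hcj⟩ := h i hi
  have hlt : ∀ {k}, k < i → k < twoU.length := fun hk => by omega
  have hmem : ∀ w : List ℕ, (∀ k ∈ w, k < i) →
      (w.map (elC twoU)).prod ∈ Subgroup.closure (elC twoU '' {j | j < i}) := fun w hw =>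
    Subgroup.list_prod_mem _ fun g hg => by
      obtain ⟨k, hk, rfl⟩ := List.mem_map.1 hg
      exact Subgroup.subset_closure ⟨k, hw k hk, rfl⟩
  refine ⟨?_, fun j hj => ?_⟩
  · have e := word_eq hts (w := [i, i]) (w' := sqU.getD i []) (by simp; omega) (fun k hk => hlt (hs k hk)) hsq
    rw [show elC twoU i ^ 2 = (([i, i] : List ℕ).map (elC twoU)).prod by simp [pow_two], e]
    exact hmem _ hs
  · obtain ⟨hw, hc⟩ := hcj j hj
    have e := word_eq hts (w := [i, j]) (w' := ((cjU.getD i []).getD j []) ++ [i]) (by simp; omega)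
      (fun k hk => by
        rcases List.mem_append.1 hk with hk | hk
        · exact hlt (hw k hk)
        · rw [List.mem_singleton] at hk; omega) hc
    simp only [List.map_append, List.prod_append, List.map_cons, List.map_nil, List.prod_cons, List.prod_nil,
      mul_one] at e
    rw [e, mul_inv_cancel_right]
    exact hmem _ hw

theorem U_le_grp : U ≤ grp := by
  refine (Subgroup.closure_le _).2 ?_
  rintro _ ⟨i, hi, rfl⟩
  exact (elC_spec chain_facts.1 (by rw [chain_facts.2.1]; exact hi)).1

theorem meet_facts : X0.card = 96 ∧ edgesF X0 = 1920 ∧ (∀ u ∈ U, X0.image ⇑u = X0) ∧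
    ((Finset.range 1365).filter fun i => (X0 ∩ rS i).card = 24).card = 320 ∧
    (∀ i < 1365, ((X0 ∩ rS i).card = 96 ∧ i = rootX) ∨ (X0 ∩ rS i).card = 48 ∨ (X0 ∩ rS i).card = 24 ∨
      ((X0 ∩ rS i).card = 21 ∧ ∃ u ∈ U, (rS rootU).image ⇑u = rS i)) := by
  have h := meet_ok
  simp only [meetB, Bool.and_eq_true, List.all_eq_true, List.mem_range, Nat.beq_eq, force_eq, Nat.blt_eq] at h
  obtain ⟨⟨⟨⟨⟨hc, he⟩, hru⟩, hfix⟩, h24⟩, hall⟩ := h
  obtain ⟨hts, hl, -⟩ := chain_facts
  refine ⟨by rw [← hc, size_toSet]; rfl, by rw [← he, edges_eq]; rfl, ?_, ?_, ?_⟩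
  · intro u hu
    induction hu using Subgroup.closure_induction with
    | mem g hg =>
      obtain ⟨i, hi, rfl⟩ := hg
      have hi' : i < twoU.length := by rw [hl]; exact hi
      rw [X0, image_toSet (elC_spec hts hi').2, hfix _ (by rw [List.getD_eq_getElem _ _ hi']; exact List.getElem_mem _)]
    | one => simp
    | mul g g' _ _ ih ih' => rw [image_mul, ih', ih]
    | inv g _ ih =>
      conv_lhs => rw [← ih]
      rw [← image_mul]
      simp
  · rw [← h24, ← List.toFinset_card_of_nodup (List.nodup_range.filter _)]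
    refine congrArg Finset.card (Finset.ext fun i => ?_)
    simp only [Finset.mem_filter, Finset.mem_range, List.mem_toFinset, List.mem_filter, List.mem_range,
      Nat.beq_eq, meet_size]
    exact Iff.rfl
  · intro i hi
    have key : ∀ n, ∀ i < 1365, nib11 subD i = n → size (Nat.land setX (rX i)) = 21 →
        ∃ u ∈ U, (rS rootU).image ⇑u = rS i := by
      intro n
      induction n using Nat.strong_induction_on with
      | _ n ih =>
        intro i hi hn hv
        have h1 := hall i hi
        rw [hv] at h1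
        simp only [show Nat.beq 21 96 = false from rfl, show Nat.beq 21 48 = false from rfl,
          show Nat.beq 21 24 = false from rfl, cond_false, Bool.and_eq_true] at h1
        obtain ⟨-, h1⟩ := h1
        by_cases h0 : nib11 subD i = 0
        · rw [h0] at h1
          simp only [show Nat.beq 0 0 = true from rfl, cond_true, Nat.beq_eq] at h1
          exact ⟨1, one_mem _, by rw [h1]; simp⟩
        · rw [show Nat.beq (nib11 subD i) 0 = false by rw [← Bool.not_eq_true, Nat.beq_eq]; exact h0] at h1
          simp only [cond_false, Bool.and_eq_true, Nat.beq_eq, Nat.blt_eq] at h1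
          obtain ⟨⟨⟨⟨hg, hp⟩, hpv⟩, hd⟩, he⟩ := h1
          obtain ⟨u, hu, e⟩ := ih (nib11 subD (nib11 subP i)) (by omega) _ hp rfl hpv
          refine ⟨elC twoU (nib11 subG i) * u, mul_mem (Subgroup.subset_closure ⟨_, hg, rfl⟩) hu, ?_⟩
          rw [image_mul, e, rS, image_toSet (elC_spec hts (by rw [hl]; exact hg)).2, he]
          rfl
    have hv : size (Nat.land setX (rX i)) = (X0 ∩ rS i).card := meet_size _ _
    have h1 := hall i hi
    by_cases e96 : size (Nat.land setX (rX i)) = 96
    · rw [e96] at h1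
      simp only [show Nat.beq 96 96 = true from rfl, cond_true, Nat.beq_eq] at h1
      exact Or.inl ⟨hv ▸ e96, h1⟩
    by_cases e48 : size (Nat.land setX (rX i)) = 48
    · exact Or.inr (Or.inl (hv ▸ e48))
    by_cases e24 : size (Nat.land setX (rX i)) = 24
    · exact Or.inr (Or.inr (Or.inl (hv ▸ e24)))
    have e21 : size (Nat.land setX (rX i)) = 21 := by
      rw [show Nat.beq (size (Nat.land setX (rX i))) 96 = false by rw [← Bool.not_eq_true, Nat.beq_eq]; exact e96,
        show Nat.beq (size (Nat.land setX (rX i))) 48 = false by rw [← Bool.not_eq_true, Nat.beq_eq]; exact e48,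
        show Nat.beq (size (Nat.land setX (rX i))) 24 = false by rw [← Bool.not_eq_true, Nat.beq_eq]; exact e24] at h1
      simp only [cond_false, Bool.and_eq_true, Nat.beq_eq] at h1
      exact h1.1
    exact Or.inr (Or.inr (Or.inr ⟨hv ▸ e21, key _ i hi rfl e21⟩))

theorem orbX_facts : rS rootX = X0 ∧ rootX < 1365 ∧ (∀ i < 1365, ∃ k ∈ grp, X0.image ⇑k = rS i) ∧
    ∀ i < 1365, ∀ j < 1365, rS i = rS j → i = j := by
  have h := orbX_ok
  simp only [orbXB, Bool.and_eq_true, List.all_eq_true, List.mem_range, Nat.beq_eq, force_eq, Nat.blt_eq,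
    Bool.or_eq_true] at h
  obtain ⟨⟨hroot, hlt⟩, hall⟩ := h
  have hX : rS rootX = X0 := by rw [rS, hroot]; rfl
  refine ⟨hX, hlt, ?_, ?_⟩
  · have key : ∀ n, ∀ i < 1365, nib11 treeD i = n → ∃ k ∈ grp, X0.image ⇑k = rS i := by
      intro n
      induction n using Nat.strong_induction_on with
      | _ n ih =>
        intro i hi hn
        obtain ⟨⟨-, -⟩, h1⟩ := hall i hi
        by_cases h0 : nib11 treeD i = 0
        · rw [h0] at h1
          simp only [show Nat.beq 0 0 = true from rfl, cond_true, Nat.beq_eq] at h1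
          exact ⟨1, one_mem _, by rw [h1, hX]; simp⟩
        · rw [show Nat.beq (nib11 treeD i) 0 = false by rw [← Bool.not_eq_true, Nat.beq_eq]; exact h0] at h1
          simp only [cond_false, Bool.and_eq_true, Nat.beq_eq, Nat.blt_eq] at h1
          obtain ⟨⟨⟨hg, hp⟩, hd⟩, he⟩ := h1
          obtain ⟨k, hk, e⟩ := ih (nib11 treeD (nib11 treeP i)) (by omega) _ hp rfl
          have hgen : GTwoFour416.prm (nib11 treeG i) ∈ grp := Subgroup.subset_closure ⟨_, hg, rfl⟩
          refine ⟨GTwoFour416.prm (nib11 treeG i) * k, mul_mem hgen hk, ?_⟩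
          rw [image_mul, e, rS, image_toSet (gen_spec _ hg), he]
          rfl
    exact fun i hi => key _ i hi rfl
  · have mono : ∀ i j, i < j → j < 1365 → rX i < rX j := by
      intro i j hij
      induction j with
      | zero => exact absurd hij (Nat.not_lt_zero _)
      | succ j ih =>
        intro hj
        have h2 : rX j < rX (j + 1) := (hall (j + 1) hj).1.1.resolve_left (by omega)
        rcases Nat.lt_succ_iff_lt_or_eq.1 hij with h' | rfl
        · exact lt_trans (ih h' (by omega)) h2
        · exact h2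
    intro i hi j hj e
    have hb : ∀ i < 1365, rX i < 2 ^ 416 := fun i hi => by
      have := (hall i hi).1.2
      rwa [show Nat.shiftLeft 1 416 = 2 ^ 416 from Nat.one_shiftLeft 416] at this
    have := toSet_inj (hb i hi) (hb j hj) e
    rcases lt_trichotomy i j with h' | h' | h'
    · exact absurd this (mono i j h' hj).ne
    · exact h'
    · exact absurd this.symm (mono j i h' hi).ne

/-- An invariant set of 96 points with 960 edges is the given one. -/
theorem cand {X : Finset Pt} (hc : X.card = 96) (he : edgesF X = 1920) (hU : ∀ u ∈ U, X.image ⇑u = X) :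
    X = X0 := by
  classical
  have h := cand_ok
  simp only [candB, Bool.and_eq_true, List.all_eq_true, List.mem_range, Nat.beq_eq, force_eq, Bool.or_eq_true,
    Bool.not_eq_true'] at h
  obtain ⟨⟨⟨hl, htree⟩, hcov⟩, hall⟩ := h
  obtain ⟨hts, hl2, -⟩ := chain_facts
  let rt : ℕ → ℕ := fun i => ((orbU.getD i []).getD 0 (0, 0, 0)).1
  let inX : ℕ → Bool := fun i => decide (∃ y : Pt, (y : ℕ) = rt i ∧ y ∈ X)
  let b : ℕ := (List.range 5).foldl (fun acc i => cond (inX i) (Nat.lor acc (Nat.shiftLeft 1 i)) acc) 0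
  have hb : ∀ i, b.testBit i = true ↔ i < 5 ∧ inX i = true := by
    intro i
    have key : ∀ (l : List ℕ) (acc : ℕ),
        (l.foldl (fun acc i => cond (inX i) (Nat.lor acc (Nat.shiftLeft 1 i)) acc) acc).testBit i = true ↔
          acc.testBit i = true ∨ (i ∈ l ∧ inX i = true) := by
      intro l
      induction l with
      | nil => simp
      | cons a l ih =>
        intro acc
        rw [List.foldl_cons, ih]
        cases ha : inX a
        · simp only [cond_false, List.mem_cons]
          constructor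
          · rintro (h | ⟨h1, h2⟩)
            · exact Or.inl h
            · exact Or.inr ⟨Or.inr h1, h2⟩
          · rintro (h | ⟨h1 | h1, h2⟩)
            · exact Or.inl h
            · subst h1; rw [ha] at h2; exact absurd h2 Bool.false_ne_true
            · exact Or.inr ⟨h1, h2⟩
        · simp only [cond_true, List.mem_cons]
          change ((acc ||| 1 <<< a).testBit i = true ∨ _) ↔ _
          rw [Nat.testBit_lor, Bool.or_eq_true, Nat.one_shiftLeft, Nat.testBit_two_pow, decide_eq_true_eq]
          constructor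
          · rintro ((h | h) | ⟨h1, h2⟩)
            · exact Or.inl h
            · exact Or.inr ⟨Or.inl h.symm, h ▸ ha⟩
            · exact Or.inr ⟨Or.inr h1, h2⟩
          · rintro (h | ⟨h1 | h1, h2⟩)
            · exact Or.inl (Or.inl h)
            · exact Or.inl (Or.inr h1.symm)
            · exact Or.inr ⟨h1, h2⟩
    rw [key, Nat.zero_testBit, List.mem_range]
    simp
  have hb32 : b < 32 := by
    refine Nat.lt_pow_two_of_testBit (n := 5) b fun i hi => ?_
    rw [← Bool.not_eq_true]
    intro h
    have := ((hb i).1 h).1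
    omega
  have hbit : ∀ v : Pt, (unionU b).testBit (v : ℕ) = true ↔
      ∃ i < 5, inX i = true ∧ (v : ℕ) ∈ (orbU.getD i []).map fun e => e.1 := by
    intro v
    have key : ∀ (l : List ℕ) (acc : ℕ),
        (l.foldl (fun acc i => cond (b.testBit i) (Nat.lor acc (treeM (orbU.getD i []))) acc) acc).testBit (v : ℕ) = true ↔
          acc.testBit (v : ℕ) = true ∨ ∃ i ∈ l, b.testBit i = true ∧ (v : ℕ) ∈ (orbU.getD i []).map fun e => e.1 := by
      intro l
      induction l with
      | nil => simp
      | cons a l ih =>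
        intro acc
        rw [List.foldl_cons, ih]
        cases ha : b.testBit a
        · simp only [cond_false, List.exists_mem_cons_iff, ha, Bool.false_eq_true, false_and, false_or]
        · simp only [cond_true, List.exists_mem_cons_iff, ha, true_and]
          change ((acc ||| treeM _).testBit (v : ℕ) = true ∨ _) ↔ _
          rw [Nat.testBit_lor, Bool.or_eq_true, treeM_bit, or_assoc]
    rw [unionU, key, Nat.zero_testBit]
    simp only [Bool.false_eq_true, false_or, List.mem_range, hb]
    exact ⟨fun ⟨i, hi, ⟨_, h1⟩, h2⟩ => ⟨i, hi, h1, h2⟩, fun ⟨i, hi, h1, h2⟩ => ⟨i, hi, ⟨hi, h1⟩, h2⟩⟩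
  have hX : X = toSet (unionU b) := by
    ext v
    rw [mem_toSet, hbit]
    have htr : ∀ i < 5, ∀ y : Pt, (y : ℕ) = rt i → ∀ w : Pt, (w : ℕ) ∈ (orbU.getD i []).map (fun e => e.1) →
        (y ∈ X ↔ w ∈ X) := by
      intro i hi y hy w hw
      have hm : orbU.getD i [] ∈ orbU := by
        rw [List.getD_eq_getElem _ _ (by omega : i < orbU.length)]; exact List.getElem_mem _
      obtain ⟨r, hr, hmove⟩ := tree_spec hts (htree _ hm)
      obtain ⟨g, hg, e⟩ := hmove _ hw
      rw [hl2] at hg
      obtain rfl : y = r := Fin.ext (hy.trans hr.symm)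
      obtain rfl : g y = w := Fin.ext e
      conv_rhs => rw [← hU g hg]
      rw [Finset.mem_image]
      exact ⟨fun h => ⟨y, h, rfl⟩, fun ⟨z, hz, e⟩ => g.injective e ▸ hz⟩
    constructor
    · intro hv
      obtain ⟨o, ho, hvo⟩ := (cover_spec hcov).2 v
      obtain ⟨i, hi, rfl⟩ := List.getElem_of_mem ho
      have hm : orbU.getD i [] ∈ orbU := by
        rw [List.getD_eq_getElem _ _ hi]; exact List.getElem_mem _
      obtain ⟨r, hr, -⟩ := tree_spec hts (htree _ hm)
      have hvo' : (v : ℕ) ∈ (orbU.getD i []).map fun e => e.1 := by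
        rw [List.getD_eq_getElem _ _ hi]; exact hvo
      exact ⟨i, by omega, decide_eq_true ⟨r, hr, (htr i (by omega) r hr v hvo').2 hv⟩, hvo'⟩
    · rintro ⟨i, hi, hin, hv⟩
      obtain ⟨y, hy, hyX⟩ := of_decide_eq_true hin
      exact (htr i hi y hy v hv).1 hyX
  have h1 := hall b hb32
  rw [hX] at hc he ⊢
  rcases h1 with h1 | h1
  · rw [← edges_eq] at he
    rw [← size_toSet] at hc
    rw [hc, he] at h1
    exact absurd h1 (by decide)
  · rw [h1]
    rfl

end Cfsg.Lib.SuzRecog
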