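import Cfsg.Agent.Lib.SuzRecog.Defs

/-!
# Unions of orbits of a five group
-/

set_option autoImplicit false
set_option maxRecDepth 100000
set_option Elab.async false

namespace Cfsg.Lib.SuzRecog

theorem five_ok : fiveB = true := by decide +kernel
theorem inc_ok : incB = true := by decide +kernel
theorem len_ok : lenB = true := by decide +kernel
theorem split_ok : splitB = true := by decide +kernel
theorem tri0 : triB 0 = true := by decide +kernel
theorem tri1 : triB 1 = true := by decide +kernel
theorem tri2 : triB 2 = true := by decide +kernel
theorem tri3 : triB 3 = true := by decide +kernel
theorem search05 : searchB 0 5 = true := by decide +kernel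
theorem search12 : searchB 1 2 = true := by decide +kernel
theorem search21 : searchB 2 1 = true := by decide +kernel
theorem search213 : searchB 2 13 = true := by decide +kernel
theorem search38 : searchB 3 8 = true := by decide +kernel

end Cfsg.Lib.SuzRecog
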