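import Cfsg.Agent.Lib.SuzRecog.Chain
import Cfsg.Agent.Lib.SuzRecog.SearchChecks

/-!
# A five group fixing the base point and the unions of its orbits
-/

set_option autoImplicit false
set_option maxRecDepth 100000

namespace Cfsg.Lib.SuzRecog

open Cfsg.Lib.CosetEnum MulAction Equiv
open Cfsg.Lib.GTwoFour416 (nib grp)

/-- The five group. -/
noncomputable def P0 : Subgroup (Perm Pt) := Subgroup.closure (elC fiveP '' {i | i < 2})

theorem five_facts : (∀ e ∈ fiveP, wordB e = true) ∧ fiveP.length = 2 ∧ (∀ i < 2, elC fiveP i L0 = L0) ∧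
    (∀ i < 2, elC fiveP i ^ 5 = 1) ∧ elC fiveP 1 * elC fiveP 0 = elC fiveP 0 * elC fiveP 1 := by
  have hl : fiveP.length = 2 := by decide +kernel
  have h := five_ok
  obtain ⟨a, b, hab⟩ : ∃ a b, fiveP = [a, b] := by
    match fiveP, hl with
    | [a, b], _ => exact ⟨a, b, rfl⟩
  unfold fiveB at h
  rw [hab] at h hl ⊢
  simp only [Bool.and_eq_true, List.all_eq_true, List.mem_range, Nat.beq_eq] at h
  obtain ⟨⟨⟨⟨h1, h2⟩, h3⟩, h4⟩, h5⟩ := h
  have hts : ∀ e ∈ [a, b], wordB e = true := by
    intro e he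
    simp only [List.mem_cons, List.not_mem_nil, or_false] at he
    rcases he with rfl | rfl <;> assumption
  have hlt : ∀ {i}, i < 2 → i < ([a, b] : List (List ℕ × ℕ)).length := fun h => h
  refine ⟨hts, rfl, fun i hi => Fin.ext ?_, fun i hi => ?_, ?_⟩
  · rw [(elC_spec hts (hlt hi)).2]
    interval_cases i
    · exact h3
    · exact h4
  · have := word_eq hts (w := [i, i, i, i, i]) (w' := []) (by simp; omega) (by simp) fun v hv => by
      interval_cases i
      · exact (h5 v hv).1.1
      · exact (h5 v hv).1.2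
    simpa [pow_succ, mul_assoc] using this
  · have := word_eq hts (w := [0, 1]) (w' := [1, 0]) (by simp) (by simp) fun v hv => (h5 v hv).2
    simpa using this.symm

theorem five_le_grp' : P0 ≤ grp := by
  refine (Subgroup.closure_le _).2 ?_
  rintro _ ⟨i, hi, rfl⟩
  exact (elC_spec five_facts.1 (by rw [five_facts.2.1]; exact hi)).1

theorem five_fix_base {g : Perm Pt} (hg : g ∈ P0) : g L0 = L0 := by
  have : P0 ≤ stabilizer (Perm Pt) L0 := by
    refine (Subgroup.closure_le _).2 ?_
    rintro _ ⟨i, hi, rfl⟩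
    exact five_facts.2.2.1 i hi
  exact this hg

theorem inc_facts : orbP.length = 20 ∧ incP.length = 19 ∧ repP 0 = 209 ∧ (orbP.getD 0 []).length = 1 ∧
    (∀ o ∈ orbP, treeB fiveP o = true) ∧ coverB orbP = true ∧
    ∀ j < 19, ∀ i < 20, field (incP.getD j 0) i =
      size (Nat.land (row (repP i)) (treeM (orbP.getD (j + 1) []))) := by
  have h := inc_ok
  simp only [incB, Bool.and_eq_true, List.all_eq_true, List.mem_range, Nat.beq_eq, force_eq] at h
  obtain ⟨⟨⟨⟨⟨⟨h1, h2⟩, h3⟩, h4⟩, h5⟩, h6⟩, h7⟩ := h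
  exact ⟨h1, h2, h3, h4, h5, h6, fun j hj => (h7 j hj).2⟩

theorem ptsP_nodup : ((List.range 20).map ptsP).flatten.Nodup := by
  have h := (cover_spec inc_facts.2.2.2.2.2.1).1
  have e : (List.range 20).map ptsP = orbP.map fun o => o.map fun e => e.1 := by
    refine List.ext_getElem (by simp [inc_facts.1]) fun i h1 h2 => ?_
    simp only [List.getElem_map, List.getElem_range, ptsP]
    rw [List.getD_eq_getElem _ _]
  rwa [e]

theorem ptsP_lt {j v : ℕ} (hj : j < 20) (hv : v ∈ ptsP j) : v < 416 := by
  have hm : orbP.getD j [] ∈ orbP := by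
    rw [List.getD_eq_getElem _ _ (by rw [inc_facts.1]; exact hj)]; exact List.getElem_mem _
  obtain ⟨r, -, hr⟩ := tree_spec five_facts.1 (inc_facts.2.2.2.2.1 _ hm)
  obtain ⟨g, -, hg⟩ := hr v hv
  exact hg ▸ (g r).isLt

theorem ptsP_cover (v : Pt) : ∃ j < 20, (v : ℕ) ∈ ptsP j := by
  obtain ⟨o, ho, hv⟩ := (cover_spec inc_facts.2.2.2.2.2.1).2 v
  obtain ⟨j, hj, rfl⟩ := List.getElem_of_mem ho
  exact ⟨j, inc_facts.1 ▸ hj, by rw [ptsP, List.getD_eq_getElem _ _ hj]; exact hv⟩

theorem ptsP_orbit {j : ℕ} (hj : j < 20) : ∃ r : Pt, (r : ℕ) = repP j ∧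
    ∀ v ∈ ptsP j, ∃ g ∈ P0, (g r : ℕ) = v := by
  have hm : orbP.getD j [] ∈ orbP := by
    rw [List.getD_eq_getElem _ _ (by rw [inc_facts.1]; exact hj)]; exact List.getElem_mem _
  obtain ⟨r, hr0, hr⟩ := tree_spec five_facts.1 (inc_facts.2.2.2.2.1 _ hm)
  rw [five_facts.2.1] at hr
  exact ⟨r, hr0, hr⟩

theorem card_P0 : IsPGroup 5 P0 ∧ Nat.card P0 = 25 := by
  haveI : Fact (Nat.Prime 5) := ⟨Nat.prime_five⟩
  have hp : IsPGroup 5 P0 := isPGroup_chain (elC fiveP) 2 fun i hi => by
    refine ⟨by rw [five_facts.2.2.2.1 i hi]; exact one_mem _, fun j hj => ?_⟩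
    obtain rfl : i = 1 := by omega
    obtain rfl : j = 0 := by omega
    rw [five_facts.2.2.2.2, mul_inv_cancel_right]
    exact Subgroup.subset_closure ⟨0, hj, rfl⟩
  refine ⟨hp, ?_⟩
  obtain ⟨n, hn⟩ := hp.exists_card_eq
  have hd : Nat.card P0 ∣ 251596800 := card_grp ▸ Subgroup.card_dvd_of_le five_le_grp'
  have hle : Nat.card P0 ≤ 25 := by
    rw [hn] at hd ⊢
    by_contra hlt
    have h3 : 3 ≤ n := by
      by_contra h
      interval_cases n <;> simp at hlt
    exact absurd ((pow_dvd_pow 5 h3).trans hd) (by norm_num)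
  refine le_antisymm hle ?_
  obtain ⟨r, -, hr⟩ := ptsP_orbit (show 4 < 20 by norm_num)
  have hnd : (ptsP 4).Nodup := by
    have := ptsP_nodup
    rw [List.nodup_flatten] at this
    exact this.1 _ (List.mem_map.2 ⟨4, List.mem_range.2 (by norm_num), rfl⟩)
  have h25 : (ptsP 4).length = 25 := by decide +kernel
  let S := {y : Pt | ∃ g ∈ P0, g r = y}
  have hm := card_mul_stab P0 r (S := S) fun y => Iff.rfl
  have hS : 25 ≤ S.ncard := by
    rw [← h25, ← List.toFinset_card_of_nodup hnd, ← Set.ncard_coe_finset,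
      ← Set.ncard_image_of_injective S Fin.val_injective]
    refine Set.ncard_le_ncard fun v hv => ?_
    obtain ⟨g, hg, e⟩ := hr v (List.mem_toFinset.1 hv)
    exact ⟨g r, ⟨g, hg, rfl⟩, e⟩
  refine le_trans hS (Nat.le_of_dvd Nat.card_pos ⟨_, hm.symm⟩)

/-- Fields of a sum. -/
theorem field_add : ∀ (i a b : ℕ), (∀ i' ≤ i, field a i' + field b i' < 4096) →
    field (a + b) i = field a i + field b i
  | i, a, b, h => by
    have hf : ∀ x k, field x k = x / 4096 ^ k % 4096 := fun x k => by
      show (x >>> (12 * k)) % 2 ^ 12 = _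
      rw [Nat.shiftRight_eq_div_pow, pow_mul]
      norm_num
    induction i generalizing a b with
    | zero =>
      have := h 0 le_rfl
      simp only [hf, pow_zero, Nat.div_one] at this ⊢
      omega
    | succ i ih =>
      have h0 := h 0 (Nat.zero_le _)
      simp only [hf, pow_zero, Nat.div_one] at h0
      have hq : (a + b) / 4096 = a / 4096 + b / 4096 := by omega
      have hs : ∀ x, field x (i + 1) = field (x / 4096) i := fun x => by
        rw [hf, hf, pow_succ', Nat.div_div_eq_div_mul]
      rw [hs, hs a, hs b, hq]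
      refine ih _ _ fun i' hi' => ?_
      have := h (i' + 1) (by omega)
      simpa only [hf, pow_succ', Nat.div_div_eq_div_mul] using this

theorem searchC_sound {leaf : List ℕ → ℕ → Bool} : ∀ (es : List (ℕ × ℕ)) (k len : ℕ) (sel : List ℕ) (acc : ℕ),
    len = es.length → searchC leaf es k len sel acc = true → ∀ sub : List (ℕ × ℕ), sub.Sublist es → sub.length = k →
      leaf ((sub.map fun e => e.1).reverse ++ sel) (acc + (sub.map fun e => e.2).sum) = true
  | [], k, len, sel, acc, _, h, sub, hsub, hk => by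
    obtain rfl := List.sublist_nil.1 hsub
    subst hk
    simpa [searchC] using h
  | e :: es, k, len, sel, acc, hlen, h, sub, hsub, hk => by
    rcases Nat.eq_zero_or_pos k with rfl | hpos
    · obtain rfl := List.length_eq_zero_iff.1 hk
      simpa [searchC] using h
    have hk0 : Nat.beq k 0 = false := by
      rw [← Bool.not_eq_true, Nat.beq_eq]; omega
    have hlk : Nat.blt len k = false := by
      rw [← Bool.not_eq_true, Nat.blt_eq]
      have := hsub.length_le
      omega
    simp only [searchC, hk0, hlk, cond_false, withVal, force_eq, Bool.and_eq_true] at h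
    have hlen' : len - 1 = es.length := by simp at hlen; omega
    rcases List.sublist_cons_iff.1 hsub with hs | ⟨r, rfl, hs⟩
    · exact searchC_sound es k _ sel acc hlen' h.1 sub hs hk
    · have := searchC_sound es (k - 1) _ (e.1 :: sel) (acc + e.2) hlen' h.2 r hs (by simp at hk; omega)
      simpa [add_assoc] using this

theorem inc_small : ∀ j < 19, ∀ i < 20, field (incP.getD j 0) i ≤ 25 := by decide +kernel

theorem acc0_field : ∀ i < 20, field acc0 i = cond ((row (repP i)).testBit 209) 1 0 := by decide +kernel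

theorem item_field {i : ℕ} (hi : i < 20) : ∀ (js : List ℕ), (∀ j ∈ js, j < 19) → js.length ≤ 30 →
    ∀ i' ≤ i, field ((js.map fun j => incP.getD j 0).sum) i' = (js.map fun j => field (incP.getD j 0) i').sum ∧
      (js.map fun j => field (incP.getD j 0) i').sum ≤ 25 * js.length
  | [], _, _, i', _ => by simp [field, nib]
  | j :: js, hj, hl, i', hi' => by
    have ih := item_field hi js (fun x hx => hj x (List.mem_cons_of_mem _ hx)) (by simp at hl; omega)
    have hb : ∀ i' ≤ i, field (incP.getD j 0) i' ≤ 25 := fun i' h => inc_small j (hj j (List.mem_cons_self ..)) i' (by omega)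
    rw [List.map_cons, List.sum_cons, List.map_cons, List.sum_cons, field_add i' _ _ fun k hk => ?_, (ih i' hi').1]
    · refine ⟨rfl, ?_⟩
      have h1 := (ih i' hi').2
      have h2 := hb i' hi'
      simp only [List.length_cons]
      omega
    · have h2 := (ih k (hk.trans hi')).2
      have h3 := hb k (hk.trans hi')
      rw [(ih k (hk.trans hi')).1]
      simp only [List.length_cons] at hl
      omega

theorem acc_field {i : ℕ} (hi : i < 20) (js : List ℕ) (hj : ∀ j ∈ js, j < 19) (hl : js.length ≤ 30) :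
    field (acc0 + (js.map fun j => incP.getD j 0).sum) i =
      cond ((row (repP i)).testBit 209) 1 0 + (js.map fun j => field (incP.getD j 0) i).sum := by
  rw [field_add, acc0_field i hi, (item_field hi js hj hl i le_rfl).1]
  intro k hk
  rw [acc0_field k (by omega), (item_field hi js hj hl k hk).1]
  have := (item_field hi js hj hl k hk).2
  cases (row (repP k)).testBit 209 <;> simp only [cond_true, cond_false] <;> omega

end Cfsg.Lib.SuzRecog
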