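import Cfsg.Agent.Lib.SuzRecog.Rank
import Cfsg.Agent.Lib.SuzRecog.Conj
import Cfsg.Agent.Lib.SuzRecog.Orbit

/-!
# The graph of a rank three group with point stabiliser `G₂(4)`
-/

set_option autoImplicit false
set_option linter.unusedSectionVars false
set_option maxRecDepth 100000

namespace Cfsg.Lib.SuzRecog

open Cfsg MulAction Equiv Finset
open Cfsg.Lib.GTwoFour416 (grp)

theorem card_near_far (u : Pt) : (univ.filter fun v => Adj u v).card = 100 ∧
    (univ.filter fun v => v ≠ u ∧ ¬ Adj u v).card = 315 := ⟨near_card u, far_card u⟩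

/-- A rank three group with a model of its point stabiliser. -/
structure Setup {Ω : Type*} [Fintype Ω] [DecidableEq Ω] (G : Subgroup (Perm Ω)) (a b c : Ω) : Type _ where
  data : Data G a b c
  ρ : ↥grp →* Perm Ω
  inj : Function.Injective ρ
  mem : ∀ k, ρ k ∈ G
  fix : ∀ k, ρ k a = a
  surj : ∀ g ∈ G, g a = a → ∃ k, ρ k = g

namespace Setup

variable {Ω : Type*} [Fintype Ω] [DecidableEq Ω] {G : Subgroup (Perm Ω)} {a b c : Ω} (S : Setup G a b c)
include S

theorem rel_rho (d : Ω) (k : ↥grp) (x y : Ω) : Rel G a d (S.ρ k x) (S.ρ k y) ↔ Rel G a d x y :=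
  S.data.rel_smul d (S.mem k) x y

theorem rel_rho' (d : Ω) (k : ↥grp) (y : Ω) : Rel G a d a (S.ρ k y) ↔ Rel G a d a y := by
  have := S.rel_rho d k a y
  rwa [S.fix k] at this

theorem orbit_rho (d y : Ω) : Rel G a d a y ↔ ∃ k, S.ρ k d = y := by
  constructor
  · rintro ⟨g, hg, h1, h2⟩
    obtain ⟨k, rfl⟩ := S.surj g hg h1
    exact ⟨k, h2⟩
  · rintro ⟨k, rfl⟩
    exact ⟨S.ρ k, S.mem k, S.fix k, rfl⟩

theorem card_comap (d : Ω) {n : ℕ} (hn : (orbit (stabilizer G a) d).ncard = n) (hpos : 0 < n) :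
    n * Nat.card ((stabilizer (Perm Ω) d).comap S.ρ) = 251596800 := by
  have h := card_mul_stab S.ρ.range d (S := {y | Rel G a d a y}) fun y => by
    refine (S.orbit_rho d y).trans ⟨fun ⟨k, e⟩ => ⟨_, ⟨k, rfl⟩, e⟩, ?_⟩
    rintro ⟨_, ⟨k, rfl⟩, e⟩
    exact ⟨k, e⟩
  rw [← Subgroup.map_comap_eq, Subgroup.card_map_of_injective S.inj,
    ← Nat.card_congr (MonoidHom.ofInjective S.inj).toEquiv, card_grp] at h
  rw [← h, ← hn]
  congr 2
  ext y
  exact S.data.orbit_iff d y

/-- The properties of the bijection of the neighbours. -/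
structure IsBeta (β : Pt → Ω) : Prop where
  equiv : ∀ (k : ↥grp) (v : Pt), β ((k : Perm Pt) v) = S.ρ k (β v)
  mem : ∀ v, Rel G a b a (β v)
  inj : Function.Injective β
  surj : ∀ y, Rel G a b a y → ∃ v, β v = y

/-- The bijection of the two sets of 416 neighbours. -/
theorem exists_beta : ∃ β : Pt → Ω, S.IsBeta β := by
  classical
  set H : Subgroup ↥grp := (stabilizer (Perm Ω) b).comap S.ρ with hH
  have hHc : Nat.card H = 604800 :=
    Nat.eq_of_mul_eq_mul_left (show 0 < 416 by norm_num) ((S.card_comap b S.data.orbB (by norm_num)).trans (by norm_num))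
  obtain ⟨L, hLe⟩ := sub_604800 (H := H.map grp.subtype) (Subgroup.map_subtype_le H)
    (by rw [Subgroup.card_map_of_injective grp.subtype_injective, hHc])
  have hfix : ∀ k : ↥grp, (k : Perm Pt) L = L ↔ S.ρ k b = b := fun k => by
    constructor
    · intro e
      have : (k : Perm Pt) ∈ H.map grp.subtype := by rw [hLe]; exact ⟨k.2, e⟩
      obtain ⟨k', hk', e'⟩ := this
      obtain rfl : k' = k := Subtype.ext e'
      exact hk'
    · intro e
      have : (k : Perm Pt) ∈ H.map grp.subtype := ⟨k, e, rfl⟩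
      rw [hLe] at this
      exact this.2
  have htr : ∀ v, ∃ k : ↥grp, (k : Perm Pt) L = v := fun v => by
    obtain ⟨g, hg, rfl⟩ := trans416 L
    obtain ⟨k, hk, rfl⟩ := trans416 v
    exact ⟨⟨k * g⁻¹, mul_mem hk (inv_mem hg)⟩, by simp⟩
  have hwd : ∀ k k' : ↥grp, (k : Perm Pt) L = (k' : Perm Pt) L ↔ S.ρ k b = S.ρ k' b := fun k k' => by
    have := hfix (k'⁻¹ * k)
    rw [map_mul, map_inv, Perm.mul_apply, Subgroup.coe_mul, Subgroup.coe_inv, Perm.mul_apply, Perm.inv_eq_iff_eq,
      Perm.inv_eq_iff_eq] at this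
    exact this
  refine ⟨fun v => S.ρ (htr v).choose b, ⟨fun k v => ?_, fun v => (S.orbit_rho b _).2 ⟨_, rfl⟩, fun u v e => ?_, ?_⟩⟩
  · rw [← Perm.mul_apply, ← map_mul]
    exact (hwd _ _).1 (by rw [(htr _).choose_spec, Subgroup.coe_mul, Perm.mul_apply, (htr v).choose_spec])
  · rw [← (htr u).choose_spec, ← (htr v).choose_spec]
    exact (hwd _ _).2 e
  · intro y hy
    obtain ⟨k, rfl⟩ := (S.orbit_rho b y).1 hy
    exact ⟨(k : Perm Pt) L, (hwd _ _).1 (htr _).choose_spec⟩

variable {β : Pt → Ω} (hβ : S.IsBeta β)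
include hβ

open Classical in
theorem card_beta (p : Ω → Prop) [DecidablePred p] :
    (univ.filter fun z => Rel G a b a z ∧ p z).card = (univ.filter fun v : Pt => p (β v)).card := by
  refine (Finset.card_bij (fun v _ => β v) ?_ ?_ ?_).symm
  · intro v hv
    simp only [mem_filter, mem_univ, true_and] at hv ⊢
    exact ⟨hβ.mem v, hv⟩
  · intro u _ v _ e
    exact hβ.inj e
  · intro z hz
    simp only [mem_filter, mem_univ, true_and] at hz ⊢
    obtain ⟨v, rfl⟩ := hβ.surj z hz.1
    exact ⟨v, hz.2, rfl⟩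

open Classical in
/-- The parameters and the graph on the neighbours. -/
theorem params : (univ.filter fun z => Rel G a b a z ∧ Rel G a b b z).card = 100 ∧
    (univ.filter fun z => Rel G a b a z ∧ Rel G a b c z).card = 96 ∧
    ∀ u v, Rel G a b (β u) (β v) ↔ Adj u v := by
  set lam := (univ.filter fun z => Rel G a b a z ∧ Rel G a b b z).card with hlam
  have hS : ∀ u, (univ.filter fun w : Pt => Rel G a b (β u) (β w)).card = lam := fun u => by
    rw [← S.card_beta hβ fun z => Rel G a b (β u) z]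
    exact S.data.card_common (hβ.mem u)
  have hmove : ∀ (k : ↥grp) (x y : Pt),
      Rel G a b (β ((k : Perm Pt) x)) (β ((k : Perm Pt) y)) ↔ Rel G a b (β x) (β y) := fun k x y => by
    rw [hβ.equiv k x, hβ.equiv k y]
    exact S.rel_rho b k _ _
  have hclass : ∀ u v w : Pt, v ≠ u → w ≠ u → (Adj u v ↔ Adj u w) →
      Rel G a b (β u) (β v) → Rel G a b (β u) (β w) := by
    intro u v w hv hw h hr
    obtain ⟨k, hk, k0, k1⟩ := trans_pair hv hw h
    have := (hmove ⟨k, hk⟩ u v).2 hr
    rwa [show ((⟨k, hk⟩ : ↥grp) : Perm Pt) = k from rfl, k0, k1] at this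
  have hsub : (univ.filter fun w : Pt => Rel G a b (β L0) (β w)) ⊆ univ.filter fun w => w ≠ L0 := fun w hw => by
    simp only [mem_filter, mem_univ, true_and] at hw ⊢
    exact fun e => S.data.rel_self (β L0) (e ▸ hw)
  have hlt := S.data.lam_lt
  have h4 := S.data.count_paths
  by_cases hN : ∃ v, Adj L0 v ∧ Rel G a b (β L0) (β v)
  · obtain ⟨v, hvA, hvR⟩ := hN
    have hne : v ≠ L0 := fun e => adj_irrefl L0 (e ▸ hvA)
    have hnear : (univ.filter fun w => Adj L0 w) ⊆ univ.filter fun w : Pt => Rel G a b (β L0) (β w) := fun w hw => by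
      simp only [mem_filter, mem_univ, true_and] at hw ⊢
      exact hclass _ _ _ hne (fun e => adj_irrefl L0 (e ▸ hw)) (iff_of_true hvA hw) hvR
    by_cases hF : ∃ w, w ≠ L0 ∧ ¬ Adj L0 w ∧ Rel G a b (β L0) (β w)
    · obtain ⟨w, hw0, hwA, hwR⟩ := hF
      exfalso
      have hall : (univ.filter fun w : Pt => w ≠ L0) ⊆ univ.filter fun w : Pt => Rel G a b (β L0) (β w) := fun y hy => by
        simp only [mem_filter, mem_univ, true_and] at hy ⊢
        by_cases hA : Adj L0 y
        · exact (mem_filter.1 (hnear (mem_filter.2 ⟨mem_univ y, hA⟩))).2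
        · exact hclass _ _ _ hw0 hy (iff_of_false hwA hA) hwR
      have h := card_le_card hall
      rw [hS, filter_ne', card_erase_of_mem (mem_univ _), card_univ, Fintype.card_fin] at h
      omega
    push_neg at hF
    have heq : (univ.filter fun w : Pt => Rel G a b (β L0) (β w)) = univ.filter fun w => Adj L0 w := by
      refine Subset.antisymm (fun w hw => ?_) hnear
      simp only [mem_filter, mem_univ, true_and] at hw ⊢
      by_contra hA
      exact hF w (fun e => S.data.rel_self (β L0) (e ▸ hw)) hA hw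
    have hl : lam = 100 := by rw [← hS L0, heq, near_card]
    refine ⟨hl, by rw [← hlam, hl] at h4; omega, fun u v => ?_⟩
    obtain ⟨g, hg, rfl⟩ := trans416 u
    obtain ⟨v, rfl⟩ := g.surjective v
    rw [hmove ⟨g, hg⟩ L0 v, grp_le_aut hg L0 v]
    have := Finset.ext_iff.1 heq v
    simpa using this
  · exfalso
    push_neg at hN
    have hcases : lam = 0 ∨ lam = 315 := by
      by_cases hF : ∃ w, Rel G a b (β L0) (β w)
      · right
        obtain ⟨w, hw⟩ := hF
        have hw0 : w ≠ L0 := fun e => S.data.rel_self (β L0) (e ▸ hw)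
        have hwA : ¬ Adj L0 w := fun hA => hN w hA hw
        rw [← hS L0, ← far_card L0]
        congr 1
        ext y
        simp only [mem_filter, mem_univ, true_and]
        exact ⟨fun hy => ⟨fun e => S.data.rel_self (β L0) (e ▸ hy), fun hA => hN y hA hy⟩,
          fun ⟨hy0, hyA⟩ => hclass _ _ _ hw0 hy0 (iff_of_false hwA hyA) hw⟩
      · left
        rw [← hS L0, card_eq_zero, filter_eq_empty_iff]
        exact fun y _ hy => hF ⟨y, hy⟩
    rw [← hlam] at h4
    rcases hcases with e | e <;> rw [e] at h4 <;> omega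

theorem adjB {u v : Pt} : Rel G a b (β u) (β v) ↔ Adj u v := (S.params hβ).2.2 u v

open Classical in
theorem count_one (u : Pt) :
    (univ.filter fun z => Rel G a c a z ∧ Rel G a b (β u) z).card = 315 := by
  have h := S.data.split fun z => Rel G a b (β u) z
  rw [S.data.card_out, if_pos (S.data.symm (hβ.mem u)),
    (S.data.card_common (hβ.mem u)).trans (S.params hβ).1] at h
  omega

open Classical in
theorem count_two {u v : Pt} (hA : Adj u v) :
    (univ.filter fun z => Rel G a c a z ∧ Rel G a b (β u) z ∧ Rel G a b (β v) z).card = 63 := by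
  have h := S.data.split fun z => Rel G a b (β u) z ∧ Rel G a b (β v) z
  have hc : (univ.filter fun z => Rel G a b (β u) z ∧ Rel G a b (β v) z).card = 100 := by
    convert (S.data.card_common ((S.adjB hβ).2 hA)).trans (S.params hβ).1
  rw [hc, if_pos ⟨S.data.symm (hβ.mem u), S.data.symm (hβ.mem v)⟩,
    S.card_beta hβ fun z => Rel G a b (β u) z ∧ Rel G a b (β v) z] at h
  have e2 : (univ.filter fun w : Pt => Rel G a b (β u) (β w) ∧ Rel G a b (β v) (β w)) =
      univ.filter fun w : Pt => Adj u w ∧ Adj v w :=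
    filter_congr fun w _ => Iff.and (S.adjB hβ) (S.adjB hβ)
  rw [e2, common_count.1 hA] at h
  omega

omit hβ in
open Classical in
theorem card_orbC : (univ.filter fun z => Rel G a c a z).card = 1365 := by
  rw [← S.data.orbC, ← Set.ncard_coe_finset]
  congr 1
  ext z
  simp [S.data.orbit_iff]

omit S hβ in
open Classical in
/-- The neighbours among the 416 of a point at distance two. -/
noncomputable def nbrs (_S : Setup G a b c) (β : Pt → Ω) (w : Ω) : Finset Pt :=
  univ.filter fun v => Rel G a b w (β v)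

theorem mem_nbrs {w : Ω} {v : Pt} : v ∈ S.nbrs β w ↔ Rel G a b w (β v) := by
  classical
  simp [nbrs]

theorem nbrs_card {w : Ω} (hw : Rel G a c a w) : (S.nbrs β w).card = 96 := by
  classical
  rw [nbrs, ← S.card_beta hβ fun z => Rel G a b w z]
  exact (S.data.card_common hw).trans (S.params hβ).2.1

theorem nbrs_move (k : ↥grp) (w : Ω) : S.nbrs β (S.ρ k w) = (S.nbrs β w).image ⇑(k : Perm Pt) := by
  ext v
  obtain ⟨u, rfl⟩ := (k : Perm Pt).surjective v
  rw [S.mem_nbrs hβ, hβ.equiv k u, S.rel_rho, ← S.mem_nbrs hβ]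
  exact ⟨fun h => mem_image_of_mem _ h, fun h => by
    obtain ⟨z, hz, e⟩ := mem_image.1 h
    exact (k : Perm Pt).injective e ▸ hz⟩

omit S hβ in
theorem edgesF_image {g : Perm Pt} (hg : g ∈ grp) (X : Finset Pt) : edgesF (X.image ⇑g) = edgesF X := by
  rw [edgesF, edgesF, sum_image (fun x _ y _ e => g.injective e)]
  refine sum_congr rfl fun v _ => ?_
  rw [filter_image, card_image_of_injective _ g.injective]
  congr 1
  exact filter_congr fun w _ => grp_le_aut hg v w

theorem nbrs_edges {w : Ω} (hw : Rel G a c a w) : edgesF (S.nbrs β w) = 1920 := by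
  classical
  set C := univ.filter fun z => Rel G a c a z with hC
  have hconst : ∀ z ∈ C, edgesF (S.nbrs β z) = edgesF (S.nbrs β w) := by
    intro z hz
    obtain ⟨k, rfl⟩ := (S.orbit_rho c z).1 (mem_filter.1 hz).2
    obtain ⟨k', rfl⟩ := (S.orbit_rho c w).1 hw
    rw [S.nbrs_move hβ, S.nbrs_move hβ, edgesF_image k.2, edgesF_image k'.2]
  have h63 : ∀ v u : Pt, Adj v u → ∑ z ∈ C, (if v ∈ S.nbrs β z ∧ u ∈ S.nbrs β z then 1 else 0) = 63 := by
    intro v u hA
    rw [sum_boole, hC, filter_filter, Nat.cast_id, ← S.count_two hβ hA]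
    congr 1
    refine filter_congr fun z _ => and_congr_right fun _ => ?_
    rw [S.mem_nbrs hβ, S.mem_nbrs hβ]
    exact ⟨fun h => ⟨S.data.symm h.1, S.data.symm h.2⟩, fun h => ⟨S.data.symm h.1, S.data.symm h.2⟩⟩
  have key : ∀ X : Finset Pt, edgesF X = ∑ v : Pt, ∑ u ∈ univ.filter (fun u => Adj v u),
      (if v ∈ X ∧ u ∈ X then 1 else 0) := fun X => by
    rw [edgesF, ← sum_filter_add_sum_filter_not univ (fun v => v ∈ X)]
    rw [show univ.filter (fun v => v ∈ X) = X by ext; simp,
      show (∑ v ∈ univ.filter (fun v => v ∉ X), ∑ u ∈ univ.filter (fun u => Adj v u),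
        (if v ∈ X ∧ u ∈ X then 1 else 0)) = 0 from sum_eq_zero fun v hv => sum_eq_zero fun u _ =>
          if_neg fun h => (mem_filter.1 hv).2 h.1, add_zero]
    refine sum_congr rfl fun v hv => ?_
    rw [sum_boole, Nat.cast_id, filter_filter]
    congr 1
    ext u
    simp [hv, and_comm]
  have hsum : ∑ z ∈ C, edgesF (S.nbrs β z) = 2620800 := by
    simp only [key]
    rw [sum_comm]
    refine Eq.trans (sum_congr rfl fun v _ => (sum_comm.trans (sum_congr rfl fun u hu => h63 v u (mem_filter.1 hu).2))) ?_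
    simp only [sum_const, near_card, card_univ, Fintype.card_fin, smul_eq_mul]
  rw [sum_congr rfl hconst, sum_const, hC, S.card_orbC, smul_eq_mul] at hsum
  exact Nat.eq_of_mul_eq_mul_left (show 0 < 1365 by norm_num) (hsum.trans (by norm_num))

/-- Some point at distance two sees the given set. -/
theorem exists_root : ∃ w, Rel G a c a w ∧ S.nbrs β w = X0 := by
  classical
  haveI : Fact (Nat.Prime 2) := ⟨Nat.prime_two⟩
  set R : Subgroup ↥grp := (stabilizer (Perm Ω) c).comap S.ρ with hR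
  have hRc : Nat.card R = 184320 :=
    Nat.eq_of_mul_eq_mul_left (show 0 < 1365 by norm_num) ((S.card_comap c S.data.orbC (by norm_num)).trans (by norm_num))
  obtain ⟨P1, hP1⟩ := Sylow.exists_subgroup_card_pow_prime 2 (G := R) (n := 12) (by rw [hRc]; norm_num)
  set P : Subgroup ↥grp := P1.map R.subtype with hP
  have hfac : (251596800 : ℕ).factorization 2 = 12 := by
    rw [show (251596800 : ℕ) = 2 ^ 12 * 61425 by norm_num, Nat.factorization_mul (by norm_num) (by norm_num),
      Nat.Prime.factorization_pow Nat.prime_two]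
    simp [Nat.factorization_eq_zero_of_not_dvd (show ¬ 2 ∣ 61425 by norm_num)]
  have hPc : Nat.card P = 2 ^ (Nat.card ↥grp).factorization 2 := by
    rw [card_grp, hfac, hP, Subgroup.card_map_of_injective R.subtype_injective, hP1]
  have hU : IsPGroup 2 (U.subgroupOf grp) :=
    chain_facts.2.2.of_equiv (Subgroup.subgroupOfEquivOfLe U_le_grp).symm
  obtain ⟨Q, hQ⟩ := hU.exists_le_sylow
  obtain ⟨g, hg⟩ := MulAction.exists_smul_eq ↥grp Q (Sylow.ofCard P hPc)
  have hUR : ∀ (u : Perm Pt) (hu : u ∈ U), S.ρ (g * ⟨u, U_le_grp hu⟩ * g⁻¹) c = c := by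
    intro u hu
    have h1 : g * (⟨u, U_le_grp hu⟩ : ↥grp) * g⁻¹ ∈ ((g • Q : Sylow 2 ↥grp) : Subgroup ↥grp) := by
      rw [Sylow.coe_subgroup_smul]
      exact ⟨⟨u, U_le_grp hu⟩, hQ hu, rfl⟩
    rw [hg] at h1
    exact Subgroup.map_subtype_le P1 h1
  refine ⟨S.ρ g⁻¹ c, (S.orbit_rho c _).2 ⟨_, rfl⟩, ?_⟩
  have hw : Rel G a c a (S.ρ g⁻¹ c) := (S.orbit_rho c _).2 ⟨_, rfl⟩
  refine cand (S.nbrs_card hβ hw) (S.nbrs_edges hβ hw) fun u hu => ?_
  have e : S.ρ ⟨u, U_le_grp hu⟩ (S.ρ g⁻¹ c) = S.ρ g⁻¹ c := by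
    have := hUR u hu
    rw [map_mul, map_mul, Perm.mul_apply, Perm.mul_apply] at this
    have h2 := congrArg ⇑((S.ρ g)⁻¹ : Perm Ω) this
    rw [Perm.inv_def, Equiv.symm_apply_apply] at h2
    rw [h2, map_inv, Perm.inv_def]
  have := S.nbrs_move hβ ⟨u, U_le_grp hu⟩ (S.ρ g⁻¹ c)
  rw [e] at this
  exact this.symm

end Setup

end Cfsg.Lib.SuzRecog
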